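import Cfsg.Agent.Lib.BG.FixedLine.Setup
import Cfsg.Prelude.Def_Transfer

/-!
The dual over an algebraically closed field of an elementary abelian subgroup.
-/

set_option autoImplicit false
set_option linter.style.haveILetI false
set_option linter.unusedSectionVars false

open scoped commutatorElement

namespace CfsgLib.BG.FixedLine

variable {X : Type*} [Group X] [Finite X] (p : ℕ) [Fact p.Prime] {V H : Subgroup X}

/-- The dual module. -/
abbrev Dual (V : Subgroup X) := Additive V →+ AlgebraicClosure (ZMod p)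

/-- The action of a normalizing subgroup on the dual module. -/
noncomputable def dualRep (hHV : H ≤ Subgroup.normalizer (V : Set X)) :
    H →* Module.End (AlgebraicClosure (ZMod p)) (Dual p V) where
  toFun g :=
    { toFun := fun f => f.comp (MonoidHom.toAdditive (CfsgLib.Coprime.conjAct hHV g⁻¹).toMonoidHom)
      map_add' := fun _ _ => rfl
      map_smul' := fun _ _ => rfl }
  map_one' := LinearMap.ext fun f => AddMonoidHom.ext fun v => by simp
  map_mul' a b := LinearMap.ext fun f => AddMonoidHom.ext fun v => by simp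

theorem dualRep_apply (hHV : H ≤ Subgroup.normalizer (V : Set X)) (g : H) (f : Dual p V) (v : Additive V) :
    dualRep p hHV g f v = f (Additive.ofMul (CfsgLib.Coprime.conjAct hHV g⁻¹ (Additive.toMul v))) := rfl

theorem finiteDimensional_dual : FiniteDimensional (AlgebraicClosure (ZMod p)) (Dual p V) := by
  haveI := Fintype.ofFinite V
  let e : Dual p V →ₗ[AlgebraicClosure (ZMod p)] (V → AlgebraicClosure (ZMod p)) :=
    { toFun := fun f v => f (Additive.ofMul v), map_add' := fun _ _ => rfl, map_smul' := fun _ _ => rfl }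
  exact FiniteDimensional.of_injective e fun f g h => AddMonoidHom.ext fun v => congrFun h (Additive.toMul v)

theorem exists_dual_ne_zero {M : Type*} [AddCommGroup M] [Module (ZMod p) M] {v : M} (hv : v ≠ 0) :
    ∃ φ : M →ₗ[ZMod p] ZMod p, φ v ≠ 0 := by
  by_contra h
  push Not at h
  exact hv ((Module.forall_dual_apply_eq_zero_iff (ZMod p) v).1 h)

theorem dual_separates (hV : Cfsg.IsElementaryAbelian p V) {v : V} (hv : v ≠ 1) :
    ∃ f : Dual p V, f (Additive.ofMul v) ≠ 0 := by
  haveI := hV.1
  letI : CommGroup V := { (inferInstance : Group V) with mul_comm := mul_comm' }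
  haveI hF : Fact p.Prime := inferInstance
  letI hM : Module (ZMod p) (Additive V) :=
    AddCommGroup.zmodModule (fun x => Additive.toMul.injective (Subtype.ext (by
      simpa using hV.2 _ (Additive.toMul x).2)))
  have hne : Additive.ofMul v ≠ 0 := fun h => hv (Additive.ofMul.injective (by simpa using h))
  obtain ⟨φ, hφ⟩ := @exists_dual_ne_zero p hF (Additive V) _ hM _ hne
  exact ⟨((algebraMap (ZMod p) (AlgebraicClosure (ZMod p))).toAddMonoidHom).comp φ.toAddMonoidHom,
    (map_ne_zero (algebraMap (ZMod p) (AlgebraicClosure (ZMod p)))).2 hφ⟩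

theorem dualRep_eq_one_iff (hV : Cfsg.IsElementaryAbelian p V)
    (hHV : H ≤ Subgroup.normalizer (V : Set X)) (g : H) :
    dualRep p hHV g = 1 ↔ (g : X) ∈ Subgroup.centralizer (V : Set X) := by
  constructor
  · intro hg v hv
    have h1 : ∀ w : V, CfsgLib.Coprime.conjAct hHV g⁻¹ w = w := by
      intro w
      by_contra hne
      obtain ⟨f, hf⟩ := dual_separates p hV (v := CfsgLib.Coprime.conjAct hHV g⁻¹ w * w⁻¹)
        (fun e => hne (mul_inv_eq_one.1 e))
      refine hf ?_
      rw [ofMul_mul, ofMul_inv, map_add, map_neg, ← sub_eq_add_neg, sub_eq_zero]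
      exact DFunLike.congr_fun (LinearMap.congr_fun hg f) (Additive.ofMul w)
    have := congrArg Subtype.val (h1 ⟨v, hv⟩)
    simp only [CfsgLib.Coprime.coe_conjAct, Subgroup.coe_inv, inv_inv] at this
    calc v * (g : X) = (g : X) * ((g : X)⁻¹ * v * (g : X)) := by group
      _ = (g : X) * v := by rw [this]
  · intro hg
    refine LinearMap.ext fun f => AddMonoidHom.ext fun v => ?_
    rw [dualRep_apply, Module.End.one_apply]
    congr 1
    refine Additive.toMul.injective (Subtype.ext ?_)
    have hc := hg ((Additive.toMul v : V) : X) (Additive.toMul v).2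
    simp only [toMul_ofMul, CfsgLib.Coprime.coe_conjAct, Subgroup.coe_inv, inv_inv]
    rw [mul_assoc, hc, inv_mul_cancel_left]

/-- Fixed functionals live on the fixed points. -/
theorem eq_zero_of_fixed (hV : Cfsg.IsElementaryAbelian p V)
    (hHV : H ≤ Subgroup.normalizer (V : Set X)) (g : H) (hcop : (orderOf (g : X)).Coprime p)
    {f : Dual p V} (hf : dualRep p hHV g f = f)
    (h0 : ∀ c : V, (c : X) ∈ Subgroup.centralizer ({(g : X)} : Set X) → f (Additive.ofMul c) = 0) :
    f = 0 := by
  haveI := hV.1
  set A := Subgroup.zpowers (g : X) with hA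
  have hAV : A ≤ Subgroup.normalizer (V : Set X) := (Subgroup.zpowers_le.2 g.2).trans hHV
  have hcop' : (Nat.card A).Coprime (Nat.card V) := by
    rw [Nat.card_zpowers]
    obtain ⟨k, hk⟩ := IsPGroup.exists_card_eq (p := p) (G := V) (fun v => ⟨1, Subtype.ext (by
      simpa using hV.2 v v.2)⟩)
    rw [hk]
    exact hcop.pow_right k
  have hsup := CfsgLib.Coprime.centralizer_sup_commutator_eq hAV hcop'
  let ker : Subgroup X :=
    { carrier := {v | ∃ hv : v ∈ V, f (Additive.ofMul ⟨v, hv⟩) = 0}
      one_mem' := ⟨V.one_mem, by rw [show (⟨1, V.one_mem⟩ : V) = 1 from rfl, ofMul_one, map_zero]⟩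
      mul_mem' := by
        rintro a b ⟨ha, ha'⟩ ⟨hb, hb'⟩
        refine ⟨V.mul_mem ha hb, ?_⟩
        rw [show (⟨a * b, V.mul_mem ha hb⟩ : V) = (⟨a, ha⟩ : V) * ⟨b, hb⟩ from rfl, ofMul_mul, map_add,
          ha', hb', add_zero]
      inv_mem' := by
        rintro a ⟨ha, ha'⟩
        refine ⟨V.inv_mem ha, ?_⟩
        rw [show (⟨a⁻¹, V.inv_mem ha⟩ : V) = (⟨a, ha⟩ : V)⁻¹ from rfl, ofMul_inv, map_neg, ha', neg_zero] }
  have hcomm : ⁅V, A⁆ ≤ ker := by
    refine Subgroup.commutator_le.2 fun v hv b hb => ?_
    obtain ⟨i, rfl⟩ := Subgroup.mem_zpowers_iff.1 hb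
    have hfix : ∀ i : ℤ, dualRep p hHV (g ^ i) f = f := by
      intro i
      have hstab : g ∈ ({ carrier := {h | dualRep p hHV h f = f}
                          one_mem' := by simp
                          mul_mem' := fun {a b} ha hb => by
                            show dualRep p hHV (a * b) f = f
                            rw [map_mul, Module.End.mul_apply, hb, ha]
                          inv_mem' := fun {a} ha => by
                            show dualRep p hHV a⁻¹ f = f
                            have := rho_inv_apply (dualRep p hHV) a f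
                            rwa [show dualRep p hHV a f = f from ha] at this } : Subgroup H) := hf
      exact zpow_mem hstab i
    refine ⟨?_, ?_⟩
    · exact CfsgLib.Coprime.commutator_le_left_of_le_normalizer hAV
        (Subgroup.commutator_mem_commutator hv hb)
    · have := DFunLike.congr_fun (hfix (-i)) (Additive.ofMul (⟨v, hv⟩⁻¹ : V))
      rw [dualRep_apply, toMul_ofMul, ofMul_inv, map_neg] at this
      have e : (⟨⁅v, (g : X) ^ i⁆, CfsgLib.Coprime.commutator_le_left_of_le_normalizer hAV
          (Subgroup.commutator_mem_commutator hv hb)⟩ : V) =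
          (⟨v, hv⟩ : V) * CfsgLib.Coprime.conjAct hHV (g ^ (-i))⁻¹ (⟨v, hv⟩⁻¹ : V) := by
        refine Subtype.ext ?_
        simp only [Subgroup.coe_mul, CfsgLib.Coprime.coe_conjAct, zpow_neg, inv_inv, Subgroup.coe_inv,
          SubgroupClass.coe_zpow, commutatorElement_def]
        group
      rw [e, ofMul_mul, map_add, this, add_neg_cancel]
  refine AddMonoidHom.ext fun v => ?_
  have hker : V ≤ ker := by
    conv_lhs => rw [← hsup]
    refine sup_le (fun c hc => ⟨hc.1, h0 ⟨c, hc.1⟩ fun w hw => ?_⟩) hcomm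
    rw [Set.mem_singleton_iff] at hw
    subst hw
    exact hc.2 _ (Subgroup.mem_zpowers _)
  obtain ⟨_, h⟩ := hker (Additive.toMul v).2
  rw [AddMonoidHom.zero_apply]
  exact h

theorem fix_dualRep_eq_bot (hV : Cfsg.IsElementaryAbelian p V)
    (hHV : H ≤ Subgroup.normalizer (V : Set X)) (g : H) (hcop : (orderOf (g : X)).Coprime p)
    (hC : V ⊓ Subgroup.centralizer ({(g : X)} : Set X) = ⊥) : fix (dualRep p hHV) g = ⊥ := by
  rw [Submodule.eq_bot_iff]
  refine fun f hf => eq_zero_of_fixed p hV hHV g hcop hf fun c hc => ?_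
  have : (c : X) ∈ V ⊓ Subgroup.centralizer ({(g : X)} : Set X) := ⟨c.2, hc⟩
  rw [hC, Subgroup.mem_bot] at this
  rw [show c = 1 from Subtype.ext this, ofMul_one, map_zero]

theorem finrank_fix_dualRep_le_one (hV : Cfsg.IsElementaryAbelian p V)
    (hHV : H ≤ Subgroup.normalizer (V : Set X)) (g : H) (hcop : (orderOf (g : X)).Coprime p)
    (hC : IsCyclic ↥(V ⊓ Subgroup.centralizer ({(g : X)} : Set X))) :
    Module.finrank (AlgebraicClosure (ZMod p)) (fix (dualRep p hHV) g) ≤ 1 := by
  obtain ⟨c, hc⟩ := hC.exists_generator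
  let ev : fix (dualRep p hHV) g →ₗ[AlgebraicClosure (ZMod p)] AlgebraicClosure (ZMod p) :=
    { toFun := fun f => (f : Dual p V) (Additive.ofMul ⟨c, c.2.1⟩)
      map_add' := fun _ _ => rfl
      map_smul' := fun _ _ => rfl }
  have hinj : Function.Injective ev := by
    rw [injective_iff_map_eq_zero]
    intro f hf
    refine Subtype.ext (eq_zero_of_fixed p hV hHV g hcop f.2 fun d hd => ?_)
    obtain ⟨i, hi⟩ := Subgroup.mem_zpowers_iff.1 (hc ⟨d, d.2, hd⟩)
    have : d = (⟨c, c.2.1⟩ : V) ^ i := Subtype.ext (by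
      simpa using (congrArg Subtype.val hi).symm)
    rw [this, ofMul_zpow, map_zsmul]
    rw [show (f : Dual p V) (Additive.ofMul ⟨c, c.2.1⟩) = 0 from hf, zsmul_zero]
  haveI := finiteDimensional_dual p (V := V)
  have := LinearMap.finrank_le_finrank_of_injective hinj
  rwa [Module.finrank_self] at this

theorem natCast_ne_zero_dual {n : ℕ} (hn : ¬ p ∣ n) : (n : AlgebraicClosure (ZMod p)) ≠ 0 := fun h =>
  hn ((CharP.cast_eq_zero_iff (AlgebraicClosure (ZMod p)) p n).1 h)

end CfsgLib.BG.FixedLine
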