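import Cfsg.Agent.Lib.BG.FixedLine.Tools

/-!
Abelian and central subgroups moved by `x` in a module where `x` fixes at most a line.
-/

set_option autoImplicit false
set_option linter.style.haveILetI false
set_option linter.unusedSectionVars false

open scoped commutatorElement

namespace CfsgLib.BG.FixedLine

open CfsgLib.Coprime

variable {K W Y : Type*} [Field K] [IsAlgClosed K] [AddCommGroup W] [Module K W]
  [FiniteDimensional K W] [Group Y] [Finite Y] {ρ : Y →* Module.End K W} {A : Subgroup Y}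

theorem eq_one_of_smul_eq {g : Subgroup.normalizer (A : Set Y)} {μ : Chi K A} (h : g • μ = μ) (a : A) :
    μ (CfsgLib.Coprime.conjAct le_rfl g⁻¹ a) = μ a := by
  conv_rhs => rw [← h]
  rfl

/-- Elements of `S` fixing a character with `A = [A, S]` force it to be trivial. -/
theorem chi_eq_one {S : Subgroup Y} (hS : S ≤ Subgroup.normalizer (A : Set Y)) (hAS : ⁅A, S⁆ = A)
    {μ : Chi K A} (h : ∀ s : S, (⟨(s : Y), hS s.2⟩ : Subgroup.normalizer (A : Set Y)) • μ = μ) : μ = 1 := by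
  refine MonoidHom.ext fun a => ?_
  let F : Subgroup Y := (μ.ker).map A.subtype
  have hle : ⁅A, S⁆ ≤ F := by
    refine Subgroup.commutator_le.2 fun u hu s hs => ?_
    have hmem : ⁅u, s⁆ ∈ A := hAS ▸ Subgroup.commutator_mem_commutator hu hs
    refine ⟨⟨_, hmem⟩, ?_, rfl⟩
    have hcj : s * u⁻¹ * s⁻¹ ∈ A := conj_mem_of_le_normalizer (hS hs) _ (A.inv_mem hu)
    have e := eq_one_of_smul_eq (h ⟨s, hs⟩) ⟨s * u⁻¹ * s⁻¹, hcj⟩
    have e2 : CfsgLib.Coprime.conjAct le_rfl (⟨s, hS hs⟩ : Subgroup.normalizer (A : Set Y))⁻¹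
        (⟨s * u⁻¹ * s⁻¹, hcj⟩ : A) = (⟨u, hu⟩ : A)⁻¹ :=
      Subtype.ext (by simp only [CfsgLib.Coprime.coe_conjAct, Subgroup.coe_inv]; group)
    rw [e2, map_inv] at e
    have e3 : (⟨⁅u, s⁆, hmem⟩ : A) = ⟨u, hu⟩ * ⟨s * u⁻¹ * s⁻¹, hcj⟩ :=
      Subtype.ext (by simp [commutatorElement_def, mul_assoc])
    show μ ⟨⁅u, s⁆, hmem⟩ = 1
    rw [e3, map_mul, ← e, mul_inv_cancel]
  obtain ⟨b, hb, hbe⟩ := (hAS.ge.trans hle) a.2
  rw [show a = b from Subtype.ext hbe.symm]
  exact hb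

/-- A central subgroup on which `x` is fixed-point-free meets the commutators trivially. -/
theorem commute_of_central {U : Subgroup Y} (hA0 : (Nat.card A : K) ≠ 0)
    (hAcen : ∀ a ∈ A, ∀ u ∈ U, a * u = u * a) (hder : ∀ u ∈ U, ∀ v ∈ U, ⁅u, v⁆ ∈ A)
    (hAU : A ≤ U) {x : Y} {r : ℕ} (hr : r.Prime) (hxr : x ^ r = 1)
    (hxA : ∀ a ∈ A, x * a * x⁻¹ ∈ A) (hAx : ⁅A, Subgroup.zpowers x⁆ = A)
    (hfix : Module.finrank K (fix ρ x) ≤ 1) :
    ∀ u ∈ U, ∀ v ∈ U, ρ u * ρ v = ρ v * ρ u := by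
  intro u hu v hv
  let x' : Subgroup.normalizer (A : Set Y) := ⟨x, mem_normalizer_of_conj hxA⟩
  have hAab : ∀ a ∈ A, ∀ b ∈ A, a * b = b * a := fun a ha b hb => hAcen a ha b (hAU hb)
  refine eq_of_eq_on_comp ρ A hAab hA0 fun ν w hw => ?_
  have hpres : ∀ g ∈ U, ∀ w ∈ comp ρ A ν, ρ g w ∈ comp ρ A ν := fun g hg w hw z => by
    rw [rho_commute ρ (hAcen z z.2 g hg), hw z, map_smul]
  rw [Module.End.mul_apply, Module.End.mul_apply]
  by_cases hν : x' • ν = ν
  · have h1 : ν = 1 := by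
      refine chi_eq_one (zpowers_le_normalizer hxA) hAx fun s => ?_
      obtain ⟨i, hi⟩ := Subgroup.mem_zpowers_iff.1 s.2
      have : (⟨(s : Y), zpowers_le_normalizer hxA s.2⟩ : Subgroup.normalizer (A : Set Y)) = x' ^ i :=
        Subtype.ext (by rw [SubgroupClass.coe_zpow]; exact hi.symm)
      rw [this]
      exact (show x' ^ i ∈ MulAction.stabilizer _ ν from zpow_mem (MulAction.mem_stabilizer_iff.2 hν) i)
    have hfixed : ρ ⁅u, v⁆ (ρ v (ρ u w)) = ρ v (ρ u w) := by
      have := hpres v hv _ (hpres u hu w hw) ⟨_, hder u hu v hv⟩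
      rwa [h1, MonoidHom.one_apply, Units.val_one, one_smul] at this
    have e : u * v = ⁅u, v⁆ * (v * u) := by simp only [commutatorElement_def]; group
    rw [← rho_mul, e, rho_mul, rho_mul, hfixed]
  · have h1 := finrank_comp_le_one ρ A hA0 (x := x') hfix hr (Subtype.ext hxr) hν
    by_cases hw0 : w = 0
    · simp [hw0]
    have hsp : comp ρ A ν = Submodule.span K {w} :=
      (Submodule.eq_of_le_of_finrank_le ((Submodule.span_singleton_le_iff_mem w _).2 hw)
        (by rw [finrank_span_singleton hw0]; exact h1)).symm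
    have hu' := hpres u hu w hw
    have hv' := hpres v hv w hw
    rw [hsp, Submodule.mem_span_singleton] at hu' hv'
    obtain ⟨s, hs⟩ := hu'
    obtain ⟨t, ht⟩ := hv'
    rw [← ht, map_smul, ← hs, map_smul, ← ht, smul_comm]

/-- BG 3.6, the Frobenius case: a `p`-group without fixed points of `x` centralizes `A = [A, S]`. -/
theorem frobenius_commute (hA : ∀ a ∈ A, ∀ b ∈ A, a * b = b * a) (hA0 : (Nat.card A : K) ≠ 0)
    {p r : ℕ} [Fact p.Prime] (hpr : p ≠ r) (hp2 : p ≠ 2) (hr : r.Prime) (hr2 : r ≠ 2)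
    {S : Subgroup Y} (hS : IsPGroup p S) (hSA : S ≤ Subgroup.normalizer (A : Set Y)) {x : Y}
    (hxr : x ^ r = 1) (hxA : ∀ a ∈ A, x * a * x⁻¹ ∈ A) (hxS : ∀ s ∈ S, x * s * x⁻¹ ∈ S)
    (hAS : ⁅A, S⁆ = A) (hC : ∀ s ∈ S, x * s = s * x → ∀ a ∈ A, s * a = a * s)
    (hfix : Module.finrank K (fix ρ x) ≤ 1) :
    ∀ s ∈ S, ∀ a ∈ A, ρ s * ρ a = ρ a * ρ s := by
  classical
  haveI := Fact.mk hr
  set N := Subgroup.normalizer (A : Set Y) with hN
  let x' : N := ⟨x, mem_normalizer_of_conj hxA⟩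
  have hx'r : x' ^ r = 1 := Subtype.ext hxr
  set S' := S.subgroupOf N with hS'
  have hS'p : IsPGroup p S' := hS.of_equiv (Subgroup.subgroupOfEquivOfLe hSA).symm
  have hxS' : ∀ s ∈ S', x' * s * x'⁻¹ ∈ S' := fun s hs => hxS _ hs
  have hXS : Subgroup.zpowers x' ≤ Subgroup.normalizer (S' : Set N) := zpowers_le_normalizer hxS'
  have hxS'' : ∀ s ∈ S', x'⁻¹ * s * x' ∈ S' := fun s hs => by
    simpa using conj_mem_of_le_normalizer (hXS (inv_mem (Subgroup.mem_zpowers x'))) s hs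
  have hp : p.Prime := Fact.out
  have hcop : (Nat.card (Subgroup.zpowers x')).Coprime (Nat.card S') :=
    coprime_zpowers hp hr hpr hS'p hx'r
  haveI := hS'p.isNilpotent
  -- orbits of occurring characters
  have hocc : ∀ (g : N) (μ : Chi K A), comp ρ A μ ≠ ⊥ → comp ρ A (g • μ) ≠ ⊥ := by
    intro g μ hμ e
    obtain ⟨v, hv, hv0⟩ := Submodule.exists_mem_ne_zero_of_ne_bot hμ
    have := rho_mem_comp ρ A g hv
    rw [e, Submodule.mem_bot] at this
    exact hv0 (by rw [← rho_inv_apply ρ (g : Y) v, this, map_zero])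
  have hcardorb : ∀ μ : Chi K A, ∃ j, Nat.card (MulAction.orbit S' μ) = p ^ j := by
    intro μ
    obtain ⟨j, hj⟩ := hS'p.index (MulAction.stabilizer S' μ)
    exact ⟨j, by rw [← hj, MulAction.index_stabilizer, Nat.card_coe_set_eq]⟩
  have htrans : ∀ μ ν : Chi K A, ν ∈ MulAction.orbit S' μ → x' • ν ∈ MulAction.orbit S' (x' • μ) := by
    rintro μ _ ⟨s, rfl⟩
    refine ⟨⟨x' * (s : N) * x'⁻¹, hxS' _ s.2⟩, ?_⟩
    show (x' * (s : N) * x'⁻¹) • x' • μ = x' • (s : N) • μ
    rw [← mul_smul, inv_mul_cancel_right, mul_smul]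
  -- fixed characters
  have hfixed : ∀ μ : Chi K A, comp ρ A μ ≠ ⊥ → x' • μ = μ → ∀ s ∈ S', s • μ = μ := by
    intro μ hμ hxμ
    by_contra hmv
    push Not at hmv
    obtain ⟨s₀, hs₀, hs₀μ⟩ := hmv
    set O := MulAction.orbit S' μ with hO
    have honly : ∀ ν ∈ O, x' • ν = ν → ν = μ := by
      rintro _ ⟨s, rfl⟩ hν
      set St := MulAction.stabilizer N μ ⊓ S' with hSt
      have hxSt : Subgroup.zpowers x' ≤ Subgroup.normalizer (St : Set N) := by
        refine le_normalizer_inf_of_le ?_ hXS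
        exact (Subgroup.zpowers_le.2 (MulAction.mem_stabilizer_iff.2 hxμ)).trans Subgroup.le_normalizer
      have hcoset : ∀ g ∈ Subgroup.zpowers x', (s : N)⁻¹ * (g * (s : N) * g⁻¹) ∈ St := by
        intro g hg
        refine ⟨?_, S'.mul_mem (S'.inv_mem s.2) (conj_mem_of_le_normalizer (hXS hg) _ s.2)⟩
        have hgμ : g • μ = μ := (Subgroup.zpowers_le.2 (MulAction.mem_stabilizer_iff.2 hxμ)) hg
        have hgν : g • (s : N) • μ = (s : N) • μ :=
          (Subgroup.zpowers_le.2 (MulAction.mem_stabilizer_iff.2 (show x' • (s : N) • μ = (s : N) • μ from hν))) hg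
        show _ ∈ MulAction.stabilizer N μ
        rw [MulAction.mem_stabilizer_iff]
        rw [mul_smul, mul_smul, mul_smul]
        rw [show g⁻¹ • μ = μ from inv_smul_eq_iff.2 hgμ.symm, hgν, inv_smul_smul]
      obtain ⟨c, hc, hcS⟩ := exists_centralizer_mem_coset hXS hcop (Or.inr inferInstance) (N := St)
        inf_le_right hxSt s.2 hcoset
      have hcx : x * (c : Y) = (c : Y) * x :=
        congrArg Subtype.val (hc.2 x' (Subgroup.mem_zpowers x'))
      have hcμ : c • μ = μ := by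
        refine MonoidHom.ext fun a => ?_
        rw [smul_chi_apply]
        congr 1
        refine Subtype.ext ?_
        simp only [CfsgLib.Coprime.coe_conjAct, Subgroup.coe_inv, inv_inv]
        have hca : (c : Y) * (a : Y) = (a : Y) * (c : Y) := hC _ hc.1 hcx _ a.2
        rw [mul_assoc, ← hca, inv_mul_cancel_left]
      have h1 : ((s : N)⁻¹ * c) • μ = μ := MulAction.mem_stabilizer_iff.1 hcS.1
      rw [mul_smul, hcμ] at h1
      show (s : N) • μ = μ
      conv_lhs => rw [← h1]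
      rw [smul_inv_smul]
    have hs₀O : s₀ • μ ∈ O := ⟨⟨s₀, hs₀⟩, rfl⟩
    set μ₁ := s₀ • μ with hμ₁
    have hμ₁m : x' • μ₁ ≠ μ₁ := fun e => hs₀μ (honly μ₁ hs₀O e)
    have hinv : ∀ i : ℕ, x' ^ i • μ₁ ∈ O := by
      intro i
      induction i with
      | zero => rw [pow_zero, one_smul]; exact hs₀O
      | succ i ih =>
        rw [pow_succ', mul_smul, hO]
        have := htrans μ _ ih
        rwa [hxμ] at this
    let F : Option (Fin r) → O := fun o => o.elim ⟨μ, MulAction.mem_orbit_self μ⟩ fun i => ⟨_, hinv i⟩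
    have hmv : ∀ i : ℕ, x' ^ i • μ₁ ≠ μ := by
      intro i e
      refine hμ₁m ?_
      have e' : μ₁ = μ := by
        have h2 : x' ^ i • μ = μ := (show x' ^ i ∈ MulAction.stabilizer N μ from pow_mem (MulAction.mem_stabilizer_iff.2 hxμ) i)
        exact smul_left_cancel (x' ^ i) (e.trans h2.symm)
      rw [e', hxμ]
    have hFbij : Function.Bijective F := by
      constructor
      · rintro (_ | i) (_ | j) e
        · rfl
        · exact absurd (congrArg Subtype.val e).symm (hmv j)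
        · exact absurd (congrArg Subtype.val e) (hmv i)
        · have e' : x' ^ (i : ℕ) • μ₁ = x' ^ (j : ℕ) • μ₁ := congrArg Subtype.val e
          congr 1
          refine Fin.ext ?_
          rcases lt_trichotomy (i : ℕ) (j : ℕ) with hlt | heq | hlt
          · exact absurd e' (pow_smul_ne A hr hx'r hμ₁m hlt j.2)
          · exact heq
          · exact absurd e'.symm (pow_smul_ne A hr hx'r hμ₁m hlt i.2)
      · rintro ⟨ν, hν⟩
        by_cases hνμ : ν = μ
        · exact ⟨none, Subtype.ext hνμ.symm⟩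
        obtain ⟨t, ht⟩ := hν
        have hνc : comp ρ A ν ≠ ⊥ := ht ▸ hocc (t : N) μ hμ
        obtain ⟨i, hi, he⟩ := moved_orbit ρ A hA0 (x := x') hfix hr hx'r hμ₁m (hocc s₀ μ hμ)
          (fun e => hνμ (honly ν ⟨t, ht⟩ e)) hνc
        exact ⟨some ⟨i, hi⟩, Subtype.ext he.symm⟩
    obtain ⟨j, hj⟩ := hcardorb μ
    rw [← hO, ← Nat.card_congr (Equiv.ofBijective F hFbij), Finite.card_option, Nat.card_fin] at hj
    have h1 : Odd (p ^ j) := (hp.odd_of_ne_two hp2).pow
    rw [← hj] at h1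
    exact (Nat.not_odd_iff_even.2 ((hr.odd_of_ne_two hr2).add_odd odd_one)) h1
  -- all nontrivial occurring characters are moved
  have hmoved : ∀ μ : Chi K A, comp ρ A μ ≠ ⊥ → μ ≠ 1 → x' • μ ≠ μ := by
    intro μ hμ hμ1 e
    exact hμ1 (chi_eq_one hSA hAS fun s => hfixed μ hμ e ⟨(s : Y), hSA s.2⟩ s.2)
  have hne1 : ∀ (g : N) (μ : Chi K A), μ ≠ 1 → g • μ ≠ 1 := fun g μ hμ e => hμ (by
    have h1 : g⁻¹ • (1 : Chi K A) = 1 := MonoidHom.ext fun _ => rfl
    have h2 := congrArg (fun t => g⁻¹ • t) e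
    simp only [inv_smul_smul, h1] at h2
    exact h2)
  have hall : ∀ μ : Chi K A, comp ρ A μ ≠ ⊥ → ∀ s ∈ S', s • μ = μ := by
    intro μ hμ
    by_cases hμ1 : μ = 1
    · subst hμ1
      exact fun s _ => MonoidHom.ext fun a => rfl
    by_contra hmv
    push Not at hmv
    obtain ⟨s₀, hs₀, hs₀μ⟩ := hmv
    set O := MulAction.orbit S' μ with hO
    have hμm := hmoved μ hμ hμ1
    obtain ⟨i, hi, he⟩ := moved_orbit ρ A hA0 (x := x') hfix hr hx'r hμm hμ
      (hmoved _ (hocc s₀ μ hμ) (hne1 s₀ μ hμ1)) (hocc s₀ μ hμ)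
    have hi0 : 0 < i := Nat.pos_of_ne_zero fun e => hs₀μ (by rw [he, e, pow_zero, one_smul])
    have hiO : x' ^ i • μ ∈ O := ⟨⟨s₀, hs₀⟩, he⟩
    let T : Subgroup N :=
      { carrier := {g | ∀ ν, ν ∈ O ↔ g • ν ∈ O}
        one_mem' := fun ν => by rw [one_smul]
        mul_mem' := fun {g g'} hg hg' ν => (hg' ν).trans ((hg _).trans (by rw [mul_smul]))
        inv_mem' := fun {g} hg ν => by
          have := hg (g⁻¹ • ν)
          rw [smul_inv_smul] at this
          exact this.symm }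
    have hxi : x' ^ i ∈ T := by
      intro ν
      have hOeq : MulAction.orbit S' (x' ^ i • μ) = O := MulAction.orbit_eq_iff.2 hiO
      have key : ∀ n : ℕ, ∀ ν, ν ∈ O ↔ x' ^ n • ν ∈ MulAction.orbit S' (x' ^ n • μ) := by
        intro n
        induction n with
        | zero => intro ν; simp [hO]
        | succ n ih =>
          intro ν
          rw [ih ν, pow_succ', mul_smul, mul_smul]
          refine ⟨htrans _ _, ?_⟩
          rintro ⟨s, hs⟩
          refine ⟨⟨x'⁻¹ * (s : N) * x', hxS'' _ s.2⟩, ?_⟩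
          show (x'⁻¹ * (s : N) * x') • x' ^ n • μ = x' ^ n • ν
          rw [mul_smul, mul_smul, show (s : N) • x' • x' ^ n • μ = x' • x' ^ n • ν from hs, inv_smul_smul]
      rw [key i ν, hOeq]
    have hx : x' ∈ T := by
      have hco : Nat.gcd i r = 1 :=
        Nat.Coprime.symm (hr.coprime_iff_not_dvd.2 fun hd => absurd (Nat.le_of_dvd hi0 hd) (by omega))
      have e' := Nat.gcd_eq_gcd_ab i r
      rw [hco, Nat.cast_one] at e'
      rw [← zpow_one x', e', zpow_add, zpow_mul, zpow_mul, zpow_natCast, zpow_natCast, hx'r, one_zpow,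
        mul_one]
      exact zpow_mem hxi _
    have hpowO : ∀ n : ℕ, x' ^ n • μ ∈ O := fun n => by
      exact ((pow_mem hx n : x' ^ n ∈ T) μ).1 (MulAction.mem_orbit_self μ)
    let F : Fin r → O := fun i => ⟨_, hpowO i⟩
    have hFbij : Function.Bijective F := by
      constructor
      · intro a b e
        have e' : x' ^ (a : ℕ) • μ = x' ^ (b : ℕ) • μ := congrArg Subtype.val e
        refine Fin.ext ?_
        rcases lt_trichotomy (a : ℕ) (b : ℕ) with hlt | heq | hlt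
        · exact absurd e' (pow_smul_ne A hr hx'r hμm hlt b.2)
        · exact heq
        · exact absurd e'.symm (pow_smul_ne A hr hx'r hμm hlt a.2)
      · rintro ⟨ν, t, ht⟩
        have hνc : comp ρ A ν ≠ ⊥ := ht ▸ hocc (t : N) μ hμ
        have hν1 : ν ≠ 1 := ht ▸ hne1 (t : N) μ hμ1
        obtain ⟨j, hj, hje⟩ := moved_orbit ρ A hA0 (x := x') hfix hr hx'r hμm hμ (hmoved ν hνc hν1) hνc
        exact ⟨⟨j, hj⟩, Subtype.ext hje.symm⟩
    obtain ⟨j, hj⟩ := hcardorb μ
    rw [← hO, ← Nat.card_congr (Equiv.ofBijective F hFbij), Nat.card_fin] at hj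
    rcases Nat.eq_zero_or_pos j with rfl | hj0
    · exact hr.ne_one (by simpa using hj)
    · exact hpr ((Nat.prime_dvd_prime_iff_eq hp hr).1 (hj ▸ dvd_pow_self p hj0.ne'))
  intro s hs a ha
  exact commute_of_fixed_chars hA hA0 (g := ⟨s, hSA hs⟩) (fun μ hμ => hall μ hμ _ hs) a ha

end CfsgLib.BG.FixedLine
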