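import Cfsg.Agent.Lib.BG.FixedLine.Line
import Cfsg.Agent.Lib.BG.FixedLine.Orbit
import Cfsg.Agent.Lib.BG.FixedLine.Dual

/-!
Group forms: `C_V(x)` cyclic on an elementary abelian `V`.
-/

set_option autoImplicit false
set_option linter.style.haveILetI false
set_option linter.unusedSectionVars false

open scoped commutatorElement

namespace CfsgLib.BG.FixedLine

variable {G : Type*} [Group G] [Finite G] {p r : ℕ} [Fact p.Prime] {V : Subgroup G}

theorem coprime_orderOf {x : G} (hr : r.Prime) (hpr : p ≠ r) (hxr : x ^ r = 1) : (orderOf x).Coprime p :=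
  Nat.Coprime.coprime_dvd_left (orderOf_dvd_of_pow_eq_one hxr)
    ((Nat.coprime_primes hr Fact.out).2 hpr.symm)

theorem map_subgroupOf_zpowers {N : Subgroup G} (x : N) :
    (Subgroup.zpowers x).map N.subtype = Subgroup.zpowers (x : G) := MonoidHom.map_zpowers _ _

/-- A `p`-element commuting with `x` centralizes `[Q, x]`. -/
theorem line_centralizes (hodd : Odd (Nat.card G)) (hV : Cfsg.IsElementaryAbelian p V) (hp2 : p ≠ 2)
    (hr : r.Prime) (hr2 : r ≠ 2) (hpr : p ≠ r) {q : ℕ} (hq : q.Prime) (hq2 : q ≠ 2) (hpq : p ≠ q) (hqr : q ≠ r)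
    {x a : G} {k : ℕ} (hxr : x ^ r = 1) (hax : a * x = x * a) (hap : a ^ p ^ k = 1)
    (hxV : x ∈ Subgroup.normalizer (V : Set G)) (haV : a ∈ Subgroup.normalizer (V : Set G))
    (hCV : IsCyclic ↥(V ⊓ Subgroup.centralizer ({x} : Set G))) {Q : Subgroup G} (hQ : IsPGroup q Q)
    (hQV : Q ≤ Subgroup.normalizer (V : Set G)) (hxQ : x ∈ Subgroup.normalizer (Q : Set G))
    (haQ : a ∈ Subgroup.normalizer (Q : Set G)) (hfaith : Q ⊓ Subgroup.centralizer (V : Set G) = ⊥)
    (hCQ : IsCyclic ↥(Q ⊓ Subgroup.centralizer ({x} : Set G))) :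
    ∀ u ∈ ⁅Q, Subgroup.zpowers x⁆, a * u = u * a := by
  set N := Subgroup.normalizer (V : Set G) with hN
  haveI := finiteDimensional_dual p (V := V)
  have hr3 : 3 ≤ r := by have := hr.two_le; omega
  have key := line_central (K := AlgebraicClosure (ZMod p)) (ρ := dualRep p (le_refl N)) (k := k) hp2 hq hr hpq hpr
    hqr (hodd.of_dvd_nat N.card_subgroup_dvd_card) hr3 hq2 (x := ⟨x, hxV⟩) (a := ⟨a, haV⟩)
    (Subtype.ext hxr) (Subtype.ext hax) (Subtype.ext hap)
    (finrank_fix_dualRep_le_one p hV (le_refl N) ⟨x, hxV⟩ (coprime_orderOf hr hpr hxr) hCV)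
    (Q.subgroupOf N) (hQ.of_equiv (Subgroup.subgroupOfEquivOfLe hQV).symm)
    (fun u hu => conj_mem_of_le_normalizer hxQ _ hu) (fun u hu => conj_mem_of_le_normalizer haQ _ hu)
    (fun u hu e => by
      have : (u : G) ∈ Q ⊓ Subgroup.centralizer (V : Set G) :=
        ⟨hu, (dualRep_eq_one_iff p hV _ u).1 e⟩
      rw [hfaith, Subgroup.mem_bot] at this
      exact Subtype.ext this)
    (by
      let f : ↥(Q.subgroupOf N ⊓ Subgroup.centralizer ({(⟨x, hxV⟩ : N)} : Set N)) →*
          ↥(Q ⊓ Subgroup.centralizer ({x} : Set G)) :=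
        { toFun := fun u => ⟨((u : N) : G), u.2.1, fun w hw => by
            rw [Set.mem_singleton_iff] at hw
            subst hw
            exact congrArg Subtype.val (u.2.2 _ rfl)⟩
          map_one' := rfl
          map_mul' := fun _ _ => rfl }
      exact isCyclic_of_injective f fun u v e => Subtype.ext (Subtype.ext (congrArg Subtype.val e :)))
  intro u hu
  have hmap : (⁅Q.subgroupOf N, Subgroup.zpowers (⟨x, hxV⟩ : N)⁆).map N.subtype = ⁅Q, Subgroup.zpowers x⁆ := by
    rw [Subgroup.map_commutator, Subgroup.map_subgroupOf_eq_of_le hQV, map_subgroupOf_zpowers]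
  rw [← hmap] at hu
  obtain ⟨w, hw, rfl⟩ := hu
  exact congrArg Subtype.val (key w hw)

/-- A class two group with derived subgroup moved by `x` cannot act faithfully. -/
theorem abelian_of_central_moved (hV : Cfsg.IsElementaryAbelian p V) (hr : r.Prime) (hpr : p ≠ r)
    {x : G} (hxr : x ^ r = 1) (hxV : x ∈ Subgroup.normalizer (V : Set G))
    (hCV : IsCyclic ↥(V ⊓ Subgroup.centralizer ({x} : Set G))) {U A : Subgroup G}
    (hUV : U ≤ Subgroup.normalizer (V : Set G)) (hcop : (Nat.card U).Coprime p)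
    (hfaith : U ⊓ Subgroup.centralizer (V : Set G) = ⊥) (hAU : A ≤ U)
    (hAcen : ∀ a ∈ A, ∀ u ∈ U, a * u = u * a) (hder : ∀ u ∈ U, ∀ v ∈ U, ⁅u, v⁆ ∈ A)
    (hxA : x ∈ Subgroup.normalizer (A : Set G)) (hAx : ⁅A, Subgroup.zpowers x⁆ = A) :
    ∀ u ∈ U, ∀ v ∈ U, u * v = v * u := by
  set N := Subgroup.normalizer (V : Set G) with hN
  haveI := finiteDimensional_dual p (V := V)
  have hA0 : (Nat.card (A.subgroupOf N) : AlgebraicClosure (ZMod p)) ≠ 0 := by
    rw [Nat.card_congr (Subgroup.subgroupOfEquivOfLe (hAU.trans hUV)).toEquiv]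
    exact natCast_ne_zero_dual p ((Fact.out : p.Prime).coprime_iff_not_dvd.1
      (hcop.coprime_dvd_left (Subgroup.card_dvd_of_le hAU)).symm)
  have key := commute_of_central (ρ := dualRep p (le_refl N)) (A := A.subgroupOf N) (U := U.subgroupOf N) hA0
    (fun a ha u hu => Subtype.ext (hAcen _ ha _ hu)) (fun u hu v hv => hder _ hu _ hv)
    (fun a ha => hAU ha) (x := ⟨x, hxV⟩) hr (Subtype.ext hxr) (fun a ha => conj_mem_of_le_normalizer hxA _ ha)
    (by
      apply Subgroup.map_injective N.subtype_injective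
      rw [Subgroup.map_commutator, map_subgroupOf_zpowers, Subgroup.map_subgroupOf_eq_of_le (hAU.trans hUV)]
      exact hAx)
    (finrank_fix_dualRep_le_one p hV (le_refl N) ⟨x, hxV⟩ (coprime_orderOf hr hpr hxr) hCV)
  intro u hu v hv
  have h := key ⟨u, hUV hu⟩ hu ⟨v, hUV hv⟩ hv
  have h1 := (dualRep_eq_one_iff p hV (le_refl N) _).1 (commute_commutator_eq h)
  have h2 : ⁅u, v⁆ ∈ U ⊓ Subgroup.centralizer (V : Set G) :=
    ⟨by rw [commutatorElement_def]; exact U.mul_mem (U.mul_mem (U.mul_mem hu hv) (U.inv_mem hu)) (U.inv_mem hv), h1⟩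
  rw [hfaith, Subgroup.mem_bot] at h2
  exact commutatorElement_eq_one_iff_mul_comm.1 h2

/-- The Frobenius case on a faithful abelian `A = [A, S]`. -/
theorem frobenius_centralizes (hV : Cfsg.IsElementaryAbelian p V) (hp2 : p ≠ 2) (hr : r.Prime) (hr2 : r ≠ 2)
    (hpr : p ≠ r) {x : G} (hxr : x ^ r = 1) (hxV : x ∈ Subgroup.normalizer (V : Set G))
    (hCV : IsCyclic ↥(V ⊓ Subgroup.centralizer ({x} : Set G))) {A S : Subgroup G}
    (hA : ∀ a ∈ A, ∀ b ∈ A, a * b = b * a) (hcop : (Nat.card A).Coprime p)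
    (hAV : A ≤ Subgroup.normalizer (V : Set G)) (hfaith : A ⊓ Subgroup.centralizer (V : Set G) = ⊥)
    (hS : IsPGroup p S) (hSV : S ≤ Subgroup.normalizer (V : Set G)) (hSA : S ≤ Subgroup.normalizer (A : Set G))
    (hxA : x ∈ Subgroup.normalizer (A : Set G)) (hxS : x ∈ Subgroup.normalizer (S : Set G))
    (hAS : ⁅A, S⁆ = A) (hC : ∀ s ∈ S, x * s = s * x → ∀ a ∈ A, s * a = a * s) :
    S ≤ Subgroup.centralizer (A : Set G) := by
  set N := Subgroup.normalizer (V : Set G) with hN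
  haveI := finiteDimensional_dual p (V := V)
  have hA0 : (Nat.card (A.subgroupOf N) : AlgebraicClosure (ZMod p)) ≠ 0 := by
    rw [Nat.card_congr (Subgroup.subgroupOfEquivOfLe hAV).toEquiv]
    exact natCast_ne_zero_dual p ((Fact.out : p.Prime).coprime_iff_not_dvd.1 hcop.symm)
  have key := frobenius_commute (ρ := dualRep p (le_refl N)) (A := A.subgroupOf N) (p := p)
    (fun a ha b hb => Subtype.ext (hA _ ha _ hb)) hA0 hpr hp2 hr hr2 (S := S.subgroupOf N)
    (hS.of_equiv (Subgroup.subgroupOfEquivOfLe hSV).symm)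
    (fun s hs => mem_normalizer_of_conj fun a ha => conj_mem_of_le_normalizer (hSA hs) _ ha)
    (x := ⟨x, hxV⟩) (Subtype.ext hxr) (fun a ha => conj_mem_of_le_normalizer hxA _ ha)
    (fun s hs => conj_mem_of_le_normalizer hxS _ hs)
    (by
      apply Subgroup.map_injective N.subtype_injective
      rw [Subgroup.map_commutator, Subgroup.map_subgroupOf_eq_of_le hAV, Subgroup.map_subgroupOf_eq_of_le hSV]
      exact hAS)
    (fun s hs e a ha => Subtype.ext (hC _ hs (congrArg Subtype.val e) _ ha))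
    (finrank_fix_dualRep_le_one p hV (le_refl N) ⟨x, hxV⟩ (coprime_orderOf hr hpr hxr) hCV)
  intro s hs a ha
  have h := key ⟨s, hSV hs⟩ hs ⟨a, hAV ha⟩ ha
  have h1 := (dualRep_eq_one_iff p hV (le_refl N) _).1 (commute_commutator_eq h)
  have h2 : ⁅s, a⁆ ∈ A ⊓ Subgroup.centralizer (V : Set G) :=
    ⟨by rw [commutatorElement_def]; exact A.mul_mem (conj_mem_of_le_normalizer (hSA hs) _ ha) (A.inv_mem ha), h1⟩
  rw [hfaith, Subgroup.mem_bot] at h2
  exact (commutatorElement_eq_one_iff_mul_comm.1 h2).symm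

end CfsgLib.BG.FixedLine
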