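import Mathlib

/-!
Linear actions in which an element of prime order has few fixed points: generalities.
-/

set_option autoImplicit false
set_option linter.style.haveILetI false
set_option linter.unusedSectionVars false

open scoped commutatorElement

namespace CfsgLib.BG.FixedLine

variable {K W Y : Type*} [Field K] [AddCommGroup W] [Module K W] [Group Y] [Finite Y]
  (ρ : Y →* Module.End K W)

theorem rho_mul (a b : Y) (v : W) : ρ (a * b) v = ρ a (ρ b v) := by
  rw [map_mul, Module.End.mul_apply]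

theorem rho_inv_apply (a : Y) (v : W) : ρ a⁻¹ (ρ a v) = v := by
  rw [← rho_mul, inv_mul_cancel, map_one, Module.End.one_apply]

theorem rho_apply_inv (a : Y) (v : W) : ρ a (ρ a⁻¹ v) = v := by
  rw [← rho_mul, mul_inv_cancel, map_one, Module.End.one_apply]

theorem rho_commute {a b : Y} (h : a * b = b * a) (v : W) : ρ a (ρ b v) = ρ b (ρ a v) := by
  rw [← rho_mul, h, rho_mul]

/-- The fixed space of an element. -/
def fix (g : Y) : Submodule K W := LinearMap.eqLocus (ρ g) 1

theorem mem_fix {g : Y} {v : W} : v ∈ fix ρ g ↔ ρ g v = v := Iff.rfl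

/-- The stabilizer of a submodule. -/
def stab (S : Submodule K W) : Subgroup Y where
  carrier := {g | ∀ v ∈ S, ρ g v ∈ S}
  one_mem' v hv := by simpa using hv
  mul_mem' {a b} ha hb v hv := by rw [rho_mul]; exact ha _ (hb v hv)
  inv_mem' {a} ha := by
    have key : ∀ n : ℕ, ∀ v ∈ S, ρ (a ^ n) v ∈ S := by
      intro n
      induction n with
      | zero => intro v hv; simpa using hv
      | succ n ih => intro v hv; rw [pow_succ', rho_mul]; exact ha _ (ih v hv)
    show ∀ v ∈ S, ρ a⁻¹ v ∈ S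
    rw [show a⁻¹ = a ^ (orderOf a - 1) from (eq_inv_of_mul_eq_one_left (by
      rw [← pow_succ, Nat.sub_add_cancel (orderOf_pos a), pow_orderOf_eq_one])).symm]
    exact key _

theorem mem_stab {S : Submodule K W} {g : Y} : g ∈ stab ρ S ↔ ∀ v ∈ S, ρ g v ∈ S := Iff.rfl

/-- The action on an invariant submodule. -/
def res (S : Submodule K W) : stab ρ S →* Module.End K S where
  toFun g := (ρ g).restrict g.2
  map_one' := LinearMap.ext fun v => Subtype.ext (by simp)
  map_mul' a b := LinearMap.ext fun v => Subtype.ext (rho_mul ρ (a : Y) (b : Y) v)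

theorem res_apply (S : Submodule K W) (g : stab ρ S) (v : S) :
    ((res ρ S g v : S) : W) = ρ (g : Y) v := rfl

theorem res_eq_one_iff (S : Submodule K W) (g : stab ρ S) :
    res ρ S g = 1 ↔ ∀ v ∈ S, ρ (g : Y) v = v :=
  ⟨fun h v hv => congrArg Subtype.val (LinearMap.congr_fun h ⟨v, hv⟩),
    fun h => LinearMap.ext fun v => Subtype.ext (h v v.2)⟩

theorem commute_of_commute_pow {u x : Y} {r i : ℕ} (hr : r.Prime) (hxr : x ^ r = 1) (hi : 0 < i)
    (hir : i < r) (h : Commute u (x ^ i)) : Commute u x := by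
  have hco : Nat.gcd i r = 1 :=
    Nat.Coprime.symm (hr.coprime_iff_not_dvd.2 fun hd => absurd (Nat.le_of_dvd hi hd) (by omega))
  have e := Nat.gcd_eq_gcd_ab i r
  rw [hco, Nat.cast_one] at e
  have : x = (x ^ i) ^ (Nat.gcdA i r) := by
    conv_lhs => rw [← zpow_one x, e]
    rw [zpow_add, zpow_mul, zpow_mul, zpow_natCast, zpow_natCast, hxr, one_zpow, mul_one]
  rw [this]
  exact h.zpow_right _

theorem pow_mem_conj {U : Subgroup Y} {x : Y} (hxU : ∀ u ∈ U, x * u * x⁻¹ ∈ U) (i : ℕ) :
    ∀ u ∈ U, x ^ i * u * (x ^ i)⁻¹ ∈ U := by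
  induction i with
  | zero => intro u hu; simpa using hu
  | succ i ih => intro u hu; rw [pow_succ']; simpa [mul_assoc] using hxU _ (ih u hu)

/-- Sum over a subgroup. -/
noncomputable def avg (A : Subgroup Y) : Module.End K W :=
  haveI := Fintype.ofFinite A; ∑ a : A, ρ (a : Y)

theorem avg_def (A : Subgroup Y) [Fintype A] : avg ρ A = ∑ a : A, ρ (a : Y) := by
  unfold avg
  convert rfl using 2
  ext; simp

theorem avg_apply (A : Subgroup Y) [Fintype A] (v : W) : avg ρ A v = ∑ a : A, ρ (a : Y) v := by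
  rw [avg_def, LinearMap.sum_apply]

theorem mul_avg {A : Subgroup Y} {a : Y} (ha : a ∈ A) : ρ a * avg ρ A = avg ρ A := by
  haveI := Fintype.ofFinite A
  rw [avg_def, Finset.mul_sum]
  exact Fintype.sum_equiv (Equiv.mulLeft (⟨a, ha⟩ : A)) _ _ fun b => by simp

theorem avg_mul {A : Subgroup Y} {a : Y} (ha : a ∈ A) : avg ρ A * ρ a = avg ρ A := by
  haveI := Fintype.ofFinite A
  rw [avg_def, Finset.sum_mul]
  exact Fintype.sum_equiv (Equiv.mulRight (⟨a, ha⟩ : A)) _ _ fun b => by simp

theorem avg_commute {A : Subgroup Y} {g : Y} (hg : ∀ a ∈ A, g * a * g⁻¹ ∈ A) :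
    ρ g * avg ρ A = avg ρ A * ρ g := by
  haveI := Fintype.ofFinite A
  let m : A → A := fun a => ⟨g * (a : Y) * g⁻¹, hg a a.2⟩
  have hm : Function.Injective m := fun a b h => Subtype.ext (by
    simpa [m] using congrArg Subtype.val h)
  rw [avg_def, Finset.mul_sum, Finset.sum_mul]
  refine Fintype.sum_bijective m (Finite.injective_iff_bijective.1 hm) _ _ fun a => ?_
  rw [← map_mul, ← map_mul]
  simp [m, mul_assoc, -map_mul]

theorem avg_of_fixed {A : Subgroup Y} {v : W} (hv : ∀ a ∈ A, ρ a v = v) :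
    avg ρ A v = (Nat.card A : K) • v := by
  haveI := Fintype.ofFinite A
  rw [avg_apply, Finset.sum_congr rfl (fun (a : A) _ => hv a a.2), Finset.sum_const, Finset.card_univ,
    ← Nat.card_eq_fintype_card, Nat.cast_smul_eq_nsmul]

/-- An element fixed-point-free on a subgroup and on the module kills the subgroup. -/
theorem eq_one_of_fpf {U : Subgroup Y} {x : Y} {r : ℕ} (hr : r.Prime) (hxr : x ^ r = 1)
    (hxU : ∀ u ∈ U, x * u * x⁻¹ ∈ U) (hU : (Nat.card U : K) ≠ 0)
    (hC : ∀ u ∈ U, x * u = u * x → u = 1) (hfix : ∀ v, ρ x v = v → v = 0) :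
    ∀ u ∈ U, ρ u = 1 := by
  classical
  haveI := Fintype.ofFinite U
  have hS : (∑ i ∈ Finset.range r, ρ (x ^ i)) = 0 := LinearMap.ext fun v => hfix _ (by
    rw [← Module.End.mul_apply]
    congr 1
    rw [Finset.mul_sum]
    simp only [← map_mul, ← pow_succ']
    have h1 := Finset.sum_range_succ' (fun i => ρ (x ^ i)) r
    have h2 := Finset.sum_range_succ (fun i => ρ (x ^ i)) r
    simp only [pow_zero, hxr] at h1 h2
    exact add_right_cancel (h1.symm.trans h2))
  have hrow : ∀ i ∈ Finset.range r, i ≠ 0 →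
      ∑ u : U, ρ ((u : Y) * x ^ i * (u : Y)⁻¹) = avg ρ U * ρ (x ^ i) := by
    intro i hi hi0
    rw [Finset.mem_range] at hi
    let g : U → U := fun u =>
      ⟨(u : Y) * (x ^ i * (u : Y)⁻¹ * (x ^ i)⁻¹),
        U.mul_mem u.2 (pow_mem_conj hxU i _ (U.inv_mem u.2))⟩
    have hg : Function.Injective g := by
      intro a b e
      have e1 : (a : Y) * x ^ i * (a : Y)⁻¹ = (b : Y) * x ^ i * (b : Y)⁻¹ := by
        have := congrArg (fun t : U => (t : Y) * x ^ i) e
        simpa [g, mul_assoc] using this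
      have hc : Commute ((b : Y)⁻¹ * (a : Y)) (x ^ i) := by
        show (b : Y)⁻¹ * (a : Y) * x ^ i = x ^ i * ((b : Y)⁻¹ * (a : Y))
        calc (b : Y)⁻¹ * (a : Y) * x ^ i = (b : Y)⁻¹ * ((a : Y) * x ^ i * (a : Y)⁻¹) * (a : Y) := by
              group
          _ = _ := by rw [e1]; group
      have := hC _ (U.mul_mem (U.inv_mem b.2) a.2)
        (commute_of_commute_pow hr hxr (Nat.pos_of_ne_zero hi0) hi hc).symm.eq
      exact Subtype.ext (inv_mul_eq_one.1 this).symm
    rw [avg_def, Finset.sum_mul]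
    exact Fintype.sum_bijective g (Finite.injective_iff_bijective.1 hg) _ _ fun u => by
      rw [← map_mul]; simp [g, mul_assoc, -map_mul]
  have h0 : (∑ i ∈ Finset.range r, ∑ u : U, ρ ((u : Y) * x ^ i * (u : Y)⁻¹)) = 0 := by
    rw [Finset.sum_comm]
    refine Finset.sum_eq_zero fun u _ => ?_
    simp only [map_mul, ← Finset.sum_mul, ← Finset.mul_sum, hS, mul_zero, zero_mul]
  have hr0 : (0 : ℕ) ∈ Finset.range r := Finset.mem_range.2 hr.pos
  rw [← Finset.add_sum_erase _ _ hr0] at h0
  rw [Finset.sum_congr rfl (fun i hi => hrow i (Finset.mem_of_mem_erase hi) (Finset.ne_of_mem_erase hi)),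
    ← Finset.mul_sum] at h0
  have hS' : (∑ i ∈ (Finset.range r).erase 0, ρ (x ^ i)) = -1 := by
    rw [← Finset.add_sum_erase _ _ hr0, pow_zero, map_one] at hS
    exact eq_neg_of_add_eq_zero_right hS
  simp only [pow_zero, mul_one, mul_inv_cancel, map_one, Finset.sum_const, Finset.card_univ,
    ← Nat.card_eq_fintype_card, hS', mul_neg] at h0
  rw [← sub_eq_add_neg, sub_eq_zero, ← Nat.cast_smul_eq_nsmul K] at h0
  intro u hu
  have h1 := mul_avg ρ hu
  rw [← h0, mul_smul_comm, mul_one] at h1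
  exact smul_right_injective _ hU h1

end CfsgLib.BG.FixedLine
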