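import Cfsg.Agent.Lib.BG.FixedLine.Count

/-!
Consequences of the counting inequality for zero and one dimensional fixed spaces.
-/

set_option autoImplicit false
set_option linter.style.haveILetI false
set_option linter.unusedSectionVars false

open scoped commutatorElement

namespace CfsgLib.BG.FixedLine

variable {K W Y : Type*} [Field K] [IsAlgClosed K] [AddCommGroup W] [Module K W] [Group Y] [Finite Y]
  {ρ : Y →* Module.End K W}

theorem fix_eq_eigenspace (g : Y) : fix ρ g = Module.End.eigenspace (ρ g) 1 := by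
  ext v
  rw [mem_fix, Module.End.mem_eigenspace_iff, one_smul]

theorem multiplicity_le_two {R m T S : ℕ} (hR : 1 ≤ R) (hcs : T ^ 2 ≤ R * S)
    (h : (R + 2) * (m ^ 2 + S) + 1 ≤ (1 + (m + T)) ^ 2) : m ≤ 2 := by
  by_contra hlt
  obtain ⟨k, rfl⟩ : ∃ k, m = k + 3 := ⟨m - 3, by omega⟩
  obtain ⟨l, rfl⟩ : ∃ l, R = l + 1 := ⟨R - 1, by omega⟩
  clear hlt hR
  have hcs' : (T : ℤ) ^ 2 ≤ ((l : ℤ) + 1) * S := by exact_mod_cast hcs
  have h' : ((l : ℤ) + 1 + 2) * (((k : ℤ) + 3) ^ 2 + S) + 1 ≤ (1 + (((k : ℤ) + 3) + T)) ^ 2 := by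
    exact_mod_cast h
  have hl : (0 : ℤ) ≤ l := Int.natCast_nonneg l
  have hk : (0 : ℤ) ≤ k := Int.natCast_nonneg k
  have h1 : ((l : ℤ) + 1) * (((l : ℤ) + 1 + 2) * (((k : ℤ) + 3) ^ 2 + S) + 1) ≤
      ((l : ℤ) + 1) * (1 + (((k : ℤ) + 3) + T)) ^ 2 := mul_le_mul_of_nonneg_left h' (by positivity)
  have h2 : ((l : ℤ) + 1 + 2) * (T : ℤ) ^ 2 ≤ ((l : ℤ) + 1 + 2) * (((l : ℤ) + 1) * S) :=
    mul_le_mul_of_nonneg_left hcs' (by positivity)
  have h3 : ((l : ℤ) + 1) * (((l : ℤ) + 1) * ((k : ℤ) ^ 2 + 4 * k + 2) + 2 * (k : ℤ) ^ 2 + 8 * k + 6) +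
      (2 * (T : ℤ) - ((l : ℤ) + 1) * ((k : ℤ) + 4)) ^ 2 ≤ 0 := by
    linear_combination 2 * h1 + 2 * h2
  have h4 : (0 : ℤ) < ((l : ℤ) + 1) * (((l : ℤ) + 1) * ((k : ℤ) ^ 2 + 4 * k + 2) + 2 * (k : ℤ) ^ 2 + 8 * k + 6) := by
    positivity
  linarith [sq_nonneg (2 * (T : ℤ) - ((l : ℤ) + 1) * ((k : ℤ) + 4))]

variable [Nontrivial W] [FiniteDimensional K W] {U Z : Subgroup Y} {x : Y} {r : ℕ} {lam : Y → K}

/-- No fixed points: the exceptional parameters. -/
theorem Central.of_fix_eq_bot (h : Central ρ U Z x r lam) (hr0 : (r : K) ≠ 0) {q : ℕ} (hq : q.Prime)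
    (hU : IsPGroup q U) (hne : ¬ U ≤ Z) (hfix : fix ρ x = ⊥) :
    q = 2 ∧ ∃ n, r = 2 ^ n + 1 ∧ Z.relIndex U = 2 ^ (2 * n) := by
  classical
  haveI : NeZero r := ⟨h.hr.ne_zero⟩
  haveI : NeZero (r : K) := ⟨hr0⟩
  obtain ⟨ω, hω⟩ := HasEnoughRootsOfUnity.exists_primitiveRoot K r
  obtain ⟨hN, hM⟩ := exists_eigen_dims (ρ x) h.pow_rho hr0 hω
  set M : Fin r → ℕ := fun i => Module.finrank K (Module.End.eigenspace (ρ x) (ω ^ (i : ℕ)))
  obtain ⟨n, hn⟩ := h.exists_index_eq hq hU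
  obtain ⟨o, ho, he⟩ := h.comm_dim_le
  have hM0 : M 0 = 0 := by
    show Module.finrank K (Module.End.eigenspace (ρ x) (ω ^ ((0 : Fin r) : ℕ))) = 0
    rw [Fin.val_zero, pow_zero, ← fix_eq_eigenspace, hfix, finrank_bot]
  have hcs : (Module.finrank K W) ^ 2 ≤ (r - 1) * Module.finrank K (comm (ρ x)) := by
    have h1 := sq_sum_le_card_mul_sum_sq (s := Finset.univ.erase (0 : Fin r)) (f := M)
    rw [Finset.sum_erase _ hM0, Finset.sum_erase _ (by rw [hM0]; rfl), hN,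
      Finset.card_erase_of_mem (Finset.mem_univ _), Finset.card_univ, Fintype.card_fin] at h1
    exact h1.trans (Nat.mul_le_mul le_rfl hM)
  have hb := h.index_mul_le
  have hbt : Module.finrank K ↥(commS ρ U ⊓ comm (ρ x)) ≤ Module.finrank K (commS ρ U) :=
    Submodule.finrank_mono inf_le_left
  have hpos := h.finrank_commS_pos
  set b := Module.finrank K (commS ρ U)
  set X := Z.relIndex U with hX
  have hX1 : X ≠ 1 := fun e => hne (Subgroup.relIndex_eq_one.1 e)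
  have hr2 := h.hr.two_le
  have h1 : X ≤ (r - 1) * (1 + o) := by
    refine Nat.le_of_mul_le_mul_right ?_ hpos
    calc X * b ≤ (r - 1) * Module.finrank K (comm (ρ x)) := hb.trans hcs
      _ ≤ (r - 1) * (b + o * b) := Nat.mul_le_mul le_rfl (he.trans (by omega))
      _ = (r - 1) * (1 + o) * b := by ring
  obtain ⟨s, rfl⟩ : ∃ s, r = s + 1 := ⟨r - 1, by omega⟩
  rw [Nat.add_sub_cancel] at h1
  have h2 : X ≤ s ^ 2 := by nlinarith
  have hQ2 : (q ^ n) ^ 2 = X := hn.symm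
  have hQs : q ^ n ≤ s := by
    by_contra hlt
    push Not at hlt
    nlinarith
  have hQ1 : 2 ≤ q ^ n := by
    rcases Nat.eq_zero_or_pos n with rfl | hn0
    · exact absurd (by simpa using hn) hX1
    · exact hq.two_le.trans (Nat.le_self_pow hn0.ne' q)
  have hdvd : s + 1 ∣ (q ^ n + 1) * (q ^ n - 1) := by
    rw [← Nat.sq_sub_sq, one_pow, hQ2, ho]
    exact ⟨o, by rw [add_comm 1, Nat.add_sub_cancel, mul_comm]⟩
  have hr' : s + 1 = q ^ n + 1 := by
    rcases h.hr.dvd_mul.1 hdvd with hd | hd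
    · have := Nat.le_of_dvd (by omega) hd; omega
    · have := Nat.le_of_dvd (by omega) hd; omega
  have hq2 : q = 2 := by
    by_contra hq2
    have hodd : Odd (q ^ n) := (hq.odd_of_ne_two hq2).pow
    rcases h.hr.eq_two_or_odd' with h2 | h2
    · omega
    · rw [hr'] at h2
      exact (Nat.not_odd_iff_even.2 (Odd.add_odd hodd odd_one)) h2
  subst hq2
  exact ⟨rfl, n, hr', by rw [← hQ2, ← pow_mul, mul_comm]⟩

/-- A fixed line: every other eigenvalue has multiplicity at most two. -/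
theorem Central.eigen_le_two (h : Central ρ U Z x r lam) (hr0 : (r : K) ≠ 0) (hr3 : 3 ≤ r)
    (hfix : Module.finrank K (fix ρ x) = 1)
    (hscal : Module.finrank K ↥(commS ρ U ⊓ comm (ρ x)) ≤ 1) {μ : K} (hμ : μ ≠ 1) :
    Module.finrank K (Module.End.eigenspace (ρ x) μ) ≤ 2 := by
  classical
  haveI : NeZero r := ⟨h.hr.ne_zero⟩
  haveI : NeZero (r : K) := ⟨hr0⟩
  by_cases hμr : μ ^ r = 1
  swap
  · suffices Module.End.eigenspace (ρ x) μ = ⊥ by rw [this, finrank_bot]; omega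
    rw [Submodule.eq_bot_iff]
    intro v hv
    rw [Module.End.mem_eigenspace_iff] at hv
    have hpow : ∀ j : ℕ, (ρ x ^ j) v = μ ^ j • v := by
      intro j
      induction j with
      | zero => simp
      | succ j ih => rw [pow_succ', Module.End.mul_apply, ih, map_smul, hv, smul_smul, ← pow_succ]
    have := hpow r
    rw [h.pow_rho, Module.End.one_apply] at this
    by_contra hv0
    exact hμr ((smul_left_injective K hv0) (show (μ ^ r) • v = (1 : K) • v by rw [one_smul, ← this]))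
  obtain ⟨ω, hω⟩ := HasEnoughRootsOfUnity.exists_primitiveRoot K r
  obtain ⟨i, hi, rfl⟩ := hω.eq_pow_of_pow_eq_one hμr
  obtain ⟨hN, hM⟩ := exists_eigen_dims (ρ x) h.pow_rho hr0 hω
  set M : Fin r → ℕ := fun i => Module.finrank K (Module.End.eigenspace (ρ x) (ω ^ (i : ℕ)))
  obtain ⟨o, ho, he⟩ := h.comm_dim_le
  have hb := h.index_mul_le
  have hpos := h.finrank_commS_pos
  set b := Module.finrank K (commS ρ U)
  set N := Module.finrank K W
  have hM0 : M 0 = 1 := by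
    show Module.finrank K (Module.End.eigenspace (ρ x) (ω ^ ((0 : Fin r) : ℕ))) = 1
    rw [Fin.val_zero, pow_zero, ← fix_eq_eigenspace, hfix]
  set j : Fin r := ⟨i, hi⟩ with hj
  have hj0 : j ≠ 0 := fun e => hμ (by
    have hv : i = 0 := congrArg Fin.val e
    rw [hv, pow_zero])
  set s := (Finset.univ.erase (0 : Fin r)).erase j with hs
  have hj' : j ∈ Finset.univ.erase (0 : Fin r) := Finset.mem_erase.2 ⟨hj0, Finset.mem_univ _⟩
  have e1 : ∀ f : Fin r → ℕ, ∑ k, f k = f 0 + (f j + ∑ k ∈ s, f k) := fun f => by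
    rw [hs, Finset.add_sum_erase _ _ hj', Finset.add_sum_erase _ _ (Finset.mem_univ _)]
  have hcard : s.card = r - 2 := by
    rw [hs, Finset.card_erase_of_mem hj', Finset.card_erase_of_mem (Finset.mem_univ _),
      Finset.card_univ, Fintype.card_fin]
    omega
  have hcs : (∑ k ∈ s, M k) ^ 2 ≤ s.card * ∑ k ∈ s, M k ^ 2 := sq_sum_le_card_mul_sum_sq
  have hN' := e1 M
  have hM' := e1 (fun k => M k ^ 2)
  rw [hN, hM0] at hN'
  rw [hM0, one_pow] at hM'
  rw [hM'] at hM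
  show M j ≤ 2
  set m := M j
  set T := ∑ k ∈ s, M k
  set S := ∑ k ∈ s, M k ^ 2
  rw [hcard] at hcs
  obtain ⟨R, rfl⟩ : ∃ R, r = R + 2 := ⟨r - 2, by omega⟩
  rw [Nat.add_sub_cancel] at hcs
  have h1 : (R + 2) * (m ^ 2 + S) + 1 ≤ N ^ 2 := by
    have : m ^ 2 + S ≤ o * b := by omega
    calc (R + 2) * (m ^ 2 + S) + 1 ≤ (R + 2) * (o * b) + b := by nlinarith
      _ = Z.relIndex U * b := by rw [ho]; ring
      _ ≤ N ^ 2 := hb
  rw [hN'] at h1
  exact multiplicity_le_two (by omega) hcs h1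

end CfsgLib.BG.FixedLine
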