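import Mathlib

/-!
The commutant of an operator of finite order with given eigenspace dimensions.
-/

set_option autoImplicit false
set_option linter.style.haveILetI false
set_option linter.unusedSectionVars false

namespace CfsgLib.BG.FixedLine

variable {K W : Type*} [Field K] [AddCommGroup W] [Module K W]

/-- The commutant of an endomorphism. -/
def comm (T : Module.End K W) : Submodule K (Module.End K W) :=
  LinearMap.eqLocus (LinearMap.mulLeft K T) (LinearMap.mulRight K T)

theorem mem_comm {T f : Module.End K W} : f ∈ comm T ↔ T * f = f * T := Iff.rfl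

variable [FiniteDimensional K W]

theorem sum_geom_primitive {r : ℕ} {ω : K} (hω : IsPrimitiveRoot ω r) {j : ℕ} (hj : j < r)
    (hj0 : j ≠ 0) : ∑ i : Fin r, (ω ^ j) ^ (i : ℕ) = 0 := by
  rw [Fin.sum_univ_eq_sum_range fun i => (ω ^ j) ^ i]
  have h1 : ω ^ j ≠ 1 := hω.pow_ne_one_of_pos_of_lt hj0 hj
  rw [geom_sum_eq h1, ← pow_mul, mul_comm, pow_mul, hω.pow_eq_one, one_pow, sub_self, zero_div]

/-- Eigenspace dimensions of an operator of order `r` and the size of its commutant. -/
theorem exists_eigen_dims {r : ℕ} [NeZero r] (T : Module.End K W) (hT : T ^ r = 1) (hr : (r : K) ≠ 0)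
    {ω : K} (hω : IsPrimitiveRoot ω r) :
    let M : Fin r → ℕ := fun i => Module.finrank K (Module.End.eigenspace T (ω ^ (i : ℕ)))
    (∑ i, M i = Module.finrank K W) ∧ (∑ i, M i ^ 2 ≤ Module.finrank K (comm T)) := by
  classical
  intro M
  have hω0 : ω ≠ 0 := hω.ne_zero (NeZero.ne r)
  let e : Fin r → Module.End K W := fun i =>
    (r : K)⁻¹ • ∑ j : Fin r, (((ω ^ (i : ℕ))⁻¹) ^ (j : ℕ)) • T ^ (j : ℕ)
  have he : ∀ i v, e i v = (r : K)⁻¹ • ∑ j : Fin r, (((ω ^ (i : ℕ))⁻¹) ^ (j : ℕ)) • (T ^ (j : ℕ)) v :=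
    fun i v => by simp [e, LinearMap.sum_apply, LinearMap.smul_apply]
  have hsum : ∀ v, ∑ i, e i v = v := by
    intro v
    simp only [he, ← Finset.smul_sum]
    rw [Finset.sum_comm]
    simp only [← Finset.sum_smul]
    rw [Finset.sum_eq_single (0 : Fin r)]
    · simp [hr]
    · intro j _ hj
      have : ∑ i : Fin r, ((ω ^ (i : ℕ))⁻¹) ^ (j : ℕ) = 0 := by
        rw [← sum_geom_primitive (hω.inv) j.2 (fun h => hj (Fin.ext h))]
        refine Finset.sum_congr rfl fun i _ => ?_
        rw [← inv_pow, ← pow_mul, ← pow_mul, mul_comm]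
      rw [this, zero_smul]
    · intro h; exact absurd (Finset.mem_univ _) h
  have hmem : ∀ (i : Fin r) v, e i v ∈ Module.End.eigenspace T (ω ^ (i : ℕ)) := by
    intro i v
    rw [Module.End.mem_eigenspace_iff, he, map_smul, map_sum, smul_comm]
    congr 1
    rw [Finset.smul_sum]
    set ζ := ω ^ (i : ℕ) with hζ
    have hζ0 : ζ ≠ 0 := pow_ne_zero _ hω0
    have hζr : ζ ^ r = 1 := by rw [hζ, ← pow_mul, mul_comm, pow_mul, hω.pow_eq_one, one_pow]
    refine Fintype.sum_equiv (Equiv.addRight (1 : Fin r)) _ _ fun j => ?_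
    rw [map_smul, ← Module.End.mul_apply, ← pow_succ', smul_smul, Equiv.coe_addRight]
    have hTmod : ∀ n, T ^ (n % r) = T ^ n := fun n => (pow_eq_pow_mod n hT).symm
    have hζmod : ∀ n, ζ⁻¹ ^ (n % r) = ζ⁻¹ ^ n := fun n =>
      (pow_eq_pow_mod n (by rw [inv_pow, hζr, inv_one])).symm
    rw [Fin.val_add, hTmod, hζmod]
    rcases Nat.lt_or_ge 1 r with h1 | h1
    · rw [Fin.val_one', Nat.mod_eq_of_lt h1]
      congr 1
      rw [pow_succ, ← mul_assoc, mul_comm ζ, mul_assoc, mul_inv_cancel₀ hζ0, mul_one]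
    · have hr1 : r = 1 := le_antisymm h1 (Nat.one_le_iff_ne_zero.2 (NeZero.ne r))
      subst hr1
      have hj : (j : ℕ) = 0 := by omega
      rw [pow_one] at hT hζr
      simp [hT, hζr, hj]
  have hid : ∀ (i k : Fin r) v, v ∈ Module.End.eigenspace T (ω ^ (k : ℕ)) →
      e i v = if i = k then v else 0 := by
    intro i k v hv
    rw [Module.End.mem_eigenspace_iff] at hv
    have hpow : ∀ j : ℕ, (T ^ j) v = (ω ^ (k : ℕ)) ^ j • v := by
      intro j
      induction j with
      | zero => simp
      | succ j ih =>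
        rw [pow_succ', Module.End.mul_apply, ih, map_smul, hv, smul_smul, ← pow_succ]
    simp only [he, hpow, smul_smul, ← mul_pow, ← Finset.sum_smul]
    split_ifs with hik
    · subst hik
      rw [inv_mul_cancel₀ (pow_ne_zero _ hω0)]
      simp [hr]
    · have hne : (ω ^ (i : ℕ))⁻¹ * ω ^ (k : ℕ) ≠ 1 := fun h => hik (Fin.ext
        (hω.pow_inj i.2 k.2 (inv_mul_eq_one₀ (pow_ne_zero _ hω0) |>.1 h)))
      have hp : ((ω ^ (i : ℕ))⁻¹ * ω ^ (k : ℕ)) ^ r = 1 := by
        have h1 : ∀ n : ℕ, (ω ^ n) ^ r = 1 := fun n => by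
          rw [← pow_mul, mul_comm, pow_mul, hω.pow_eq_one, one_pow]
        rw [mul_pow, inv_pow, h1, h1, inv_one, mul_one]
      rw [Fin.sum_univ_eq_sum_range fun j => ((ω ^ (i : ℕ))⁻¹ * ω ^ (k : ℕ)) ^ j, geom_sum_eq hne, hp,
        sub_self, zero_div, mul_zero, zero_smul]
  let equiv : W ≃ₗ[K] Π i : Fin r, Module.End.eigenspace T (ω ^ (i : ℕ)) :=
    { toFun := fun v i => ⟨e i v, hmem i v⟩
      map_add' := fun a b => funext fun i => Subtype.ext (map_add _ a b)
      map_smul' := fun c a => funext fun i => Subtype.ext (map_smul _ c a)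
      invFun := fun w => ∑ i, (w i : W)
      left_inv := hsum
      right_inv := fun w => funext fun i => Subtype.ext (by
        show e i (∑ k, (w k : W)) = w i
        rw [map_sum, Finset.sum_eq_single i]
        · rw [hid i i _ (w i).2, if_pos rfl]
        · intro k _ hk
          rw [hid i k _ (w k).2, if_neg (Ne.symm hk)]
        · intro h; exact absurd (Finset.mem_univ _) h) }
  refine ⟨?_, ?_⟩
  · rw [equiv.finrank_eq, Module.finrank_pi_fintype]
  have hcomm : ∀ i v, T (e i v) = e i (T v) := by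
    intro i v
    simp only [he, map_smul, map_sum]
    refine congrArg _ (Finset.sum_congr rfl fun j _ => ?_)
    rw [← Module.End.mul_apply, ← pow_succ', pow_succ, Module.End.mul_apply]
  let ψ : (Π i : Fin r, Module.End K (Module.End.eigenspace T (ω ^ (i : ℕ)))) →ₗ[K] Module.End K W :=
    ∑ i, { toFun := fun f => (Submodule.subtype _).comp
            ((f i).comp (LinearMap.codRestrict _ (e i) (hmem i)))
           map_add' := fun a b => by ext v; simp
           map_smul' := fun c a => by ext v; simp }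
  have hψ : ∀ f v, ψ f v = ∑ i, ((f i ⟨e i v, hmem i v⟩ : _) : W) := fun f v => by
    simp [ψ, LinearMap.sum_apply, LinearMap.codRestrict]
  have hψT : ∀ f, ψ f ∈ comm T := by
    intro f
    refine mem_comm.2 (LinearMap.ext fun v => ?_)
    simp only [Module.End.mul_apply, hψ, map_sum]
    refine Finset.sum_congr rfl fun i _ => ?_
    rw [Module.End.mem_eigenspace_iff.1 (f i _).2]
    have : (⟨e i (T v), hmem i (T v)⟩ : Module.End.eigenspace T (ω ^ (i : ℕ))) =
        ω ^ (i : ℕ) • ⟨e i v, hmem i v⟩ := Subtype.ext (by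
      rw [SetLike.val_smul]
      exact (hcomm i v).symm.trans (Module.End.mem_eigenspace_iff.1 (hmem i v)))
    rw [this, map_smul, SetLike.val_smul]
  have hinj : Function.Injective ψ := by
    intro f g hfg
    funext i
    refine LinearMap.ext fun w => Subtype.ext ?_
    have h := LinearMap.congr_fun hfg (w : W)
    rw [hψ, hψ, Finset.sum_eq_single i, Finset.sum_eq_single i] at h
    · have hw : (⟨e i (w : W), hmem i w⟩ : Module.End.eigenspace T (ω ^ (i : ℕ))) = w :=
        Subtype.ext (by simpa using hid i i _ w.2)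
      rwa [hw] at h
    all_goals first
      | (intro h; exact absurd (Finset.mem_univ _) h)
      | (intro k _ hk
         have hw : (⟨e k (w : W), hmem k w⟩ : Module.End.eigenspace T (ω ^ (k : ℕ))) = 0 :=
           Subtype.ext (show e k (w : W) = 0 by rw [hid k i _ w.2, if_neg hk])
         rw [hw, map_zero, Submodule.coe_zero])
  have := LinearMap.finrank_le_finrank_of_injective (f := ψ.codRestrict (comm T) hψT)
    (fun a b h => hinj (congrArg Subtype.val h))
  rw [Module.finrank_pi_fintype] at this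
  refine le_of_eq_of_le ?_ this
  exact Finset.sum_congr rfl fun i _ => by rw [Module.finrank_linearMap]; exact sq _

end CfsgLib.BG.FixedLine
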