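import Mathlib

/-!
A nondegenerate alternating pairing on a finite group has square index over its radical.
-/

set_option autoImplicit false
set_option linter.style.haveILetI false
set_option linter.unusedSectionVars false

namespace CfsgLib.BG.FixedLine

variable {K Y : Type*} [Field K] [Group Y] [Finite Y]

/-- One-sided bound for a pairing with values in a field. -/
theorem relIndex_le_of_pairing {B C D D₀ : Subgroup Y} (c : Y → Y → K)
    (h1 : ∀ u ∈ C, c u 1 = 1)
    (hR : ∀ u ∈ C, ∀ v ∈ D, ∀ v' ∈ D, c u (v * v') = c u v * c u v')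
    (hsep : ∀ u ∈ C, ∀ u' ∈ C, (∀ v ∈ D, c u v = c u' v) → u⁻¹ * u' ∈ B)
    (hD₀ : ∀ u ∈ C, ∀ v ∈ D₀, c u v = 1) (hD₀le : D₀ ≤ D) :
    B.relIndex C ≤ D₀.relIndex D := by
  classical
  haveI := Fintype.ofFinite (C ⧸ B.subgroupOf C)
  haveI := Fintype.ofFinite (D ⧸ D₀.subgroupOf D)
  let f : (C ⧸ B.subgroupOf C) → (D →* K) := fun i =>
    { toFun := fun v => c (i.out : C) v
      map_one' := h1 _ (i.out).2
      map_mul' := fun v w => hR _ (i.out).2 _ v.2 _ w.2 }
  have hf : Function.Injective f := by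
    intro i j hij
    have h := hsep _ i.out.2 _ j.out.2 fun v hv => DFunLike.congr_fun hij ⟨v, hv⟩
    rw [← QuotientGroup.out_eq' i, ← QuotientGroup.out_eq' j, QuotientGroup.eq,
      Subgroup.mem_subgroupOf]
    simpa using h
  let F : (C ⧸ B.subgroupOf C) → ((D ⧸ D₀.subgroupOf D) → K) := fun i q => f i q.out
  have hfF : ∀ i (v : D), f i v = F i (QuotientGroup.mk v) := by
    intro i v
    have hm : ((QuotientGroup.mk v : D ⧸ D₀.subgroupOf D).out)⁻¹ * v ∈ D₀.subgroupOf D := by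
      rw [← QuotientGroup.eq, QuotientGroup.out_eq']
    have : f i ((QuotientGroup.mk v : D ⧸ D₀.subgroupOf D).out⁻¹ * v) = 1 :=
      hD₀ _ (i.out).2 _ hm
    show f i v = f i _
    conv_lhs => rw [← mul_inv_cancel_left (QuotientGroup.mk v : D ⧸ D₀.subgroupOf D).out v]
    rw [map_mul, this, mul_one]
  have hlin : LinearIndependent K F := by
    have := (linearIndependent_monoidHom D K).comp f hf
    refine linearIndependent_iff'.2 fun s g hg i hi => linearIndependent_iff'.1 this s g ?_ i hi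
    funext v
    have := congrFun hg (QuotientGroup.mk v)
    simpa [Finset.sum_apply, hfF] using this
  have := hlin.fintype_card_le_finrank
  rw [Module.finrank_fintype_fun_eq_card] at this
  rw [Subgroup.relIndex, Subgroup.relIndex, Subgroup.index, Subgroup.index, Nat.card_eq_fintype_card,
    Nat.card_eq_fintype_card]
  exact this

/-- The index of the radical of an alternating pairing is a square. -/
theorem relIndex_radical_eq_sq {U Z : Subgroup Y} (hZU : Z ≤ U) (c : Y → Y → K)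
    (hL : ∀ u ∈ U, ∀ u' ∈ U, ∀ v ∈ U, c (u * u') v = c u v * c u' v)
    (hR : ∀ u ∈ U, ∀ v ∈ U, ∀ v' ∈ U, c u (v * v') = c u v * c u v')
    (halt : ∀ u ∈ U, c u u = 1)
    (hrad : ∀ u ∈ U, ((∀ v ∈ U, c u v = 1) ↔ u ∈ Z)) :
    ∃ m : ℕ, Z.relIndex U = m ^ 2 ∧ m ∣ Z.relIndex U := by
  classical
  have hskew : ∀ u ∈ U, ∀ v ∈ U, c u v * c v u = 1 := by
    intro u hu v hv
    have h := halt _ (U.mul_mem hu hv)
    rw [hL u hu v hv _ (U.mul_mem hu hv), hR u hu u hu v hv, hR v hv u hu v hv, halt u hu, halt v hv,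
      one_mul, mul_one] at h
    exact h
  have hne : ∀ u ∈ U, ∀ v ∈ U, c u v ≠ 0 := fun u hu v hv h0 => by
    have := hskew u hu v hv
    rw [h0, zero_mul] at this
    exact zero_ne_one this
  have hone : ∀ u ∈ U, c u 1 = 1 := fun u hu => by
    have h := hR u hu 1 U.one_mem 1 U.one_mem
    rw [one_mul] at h
    exact (mul_eq_left₀ (hne u hu 1 U.one_mem)).1 h.symm
  have hsym : ∀ u ∈ U, ∀ v ∈ U, c u v = 1 → c v u = 1 := fun u hu v hv h => by
    have := hskew u hu v hv
    rwa [h, one_mul] at this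
  have hinv : ∀ u ∈ U, ∀ v ∈ U, c u v = 1 → c u v⁻¹ = 1 := fun u hu v hv h => by
    have := hR u hu v hv v⁻¹ (U.inv_mem hv)
    rw [mul_inv_cancel, hone u hu, h, one_mul] at this
    exact this.symm
  -- the orthogonal
  let perp : Set Y → Subgroup Y := fun S =>
    { carrier := {v | v ∈ U ∧ ∀ s ∈ S, s ∈ U → c s v = 1}
      one_mem' := ⟨U.one_mem, fun s _ hs => hone s hs⟩
      mul_mem' := fun {a b} ha hb => ⟨U.mul_mem ha.1 hb.1, fun s hs hsU => by
        rw [hR s hsU a ha.1 b hb.1, ha.2 s hs hsU, hb.2 s hs hsU, one_mul]⟩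
      inv_mem' := fun {a} ha => ⟨U.inv_mem ha.1, fun s hs hsU => hinv s hsU a ha.1 (ha.2 s hs hsU)⟩ }
  obtain ⟨A, ⟨hZA, hAU, hAiso⟩, hmax⟩ := Set.Finite.exists_maximal
    (s := {A : Subgroup Y | Z ≤ A ∧ A ≤ U ∧ ∀ a ∈ A, ∀ b ∈ A, c a b = 1}) (Set.toFinite _)
    ⟨Z, le_rfl, hZU, fun a ha b hb => (hrad a (hZU ha)).2 ha b (hZU hb)⟩
  have hperp : ∀ u ∈ U, (∀ a ∈ A, c a u = 1) → u ∈ A := by
    intro u hu h
    set S : Set Y := (A : Set Y) ∪ {u} with hS
    have hSU : ∀ s ∈ S, s ∈ U := by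
      rintro s (hs | rfl)
      · exact hAU hs
      · exact hu
    have hiso : ∀ s ∈ S, ∀ t ∈ S, c s t = 1 := by
      rintro s (hs | rfl) t (ht | rfl)
      · exact hAiso s hs t ht
      · exact h s hs
      · exact hsym t (hAU ht) s hu (h t ht)
      · exact halt _ hu
    have h1 : Subgroup.closure S ≤ perp S :=
      (Subgroup.closure_le _).2 fun t ht => ⟨hSU t ht, fun s hs _ => hiso s hs t ht⟩
    have h2 : ∀ w ∈ Subgroup.closure S, ∀ t ∈ Subgroup.closure S, c w t = 1 := by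
      intro w hw
      have hwU : w ∈ U := (h1 hw).1
      have : Subgroup.closure S ≤ perp {w} := (Subgroup.closure_le _).2 fun s hs => ⟨hSU s hs,
        fun t ht htU => by
          rw [Set.mem_singleton_iff] at ht
          subst ht
          exact hsym s (hSU s hs) t htU ((h1 hw).2 s hs (hSU s hs))⟩
      exact fun t ht => (this ht).2 w rfl hwU
    have hle : A ≤ Subgroup.closure S := fun a ha => Subgroup.subset_closure (Or.inl ha)
    exact hmax (y := Subgroup.closure S)
      ⟨hZA.trans hle, fun t ht => (h1 ht).1, h2⟩ hle (Subgroup.subset_closure (Or.inr rfl))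
  refine ⟨Z.relIndex A, ?_, Dvd.intro _ (Subgroup.relIndex_mul_relIndex Z A U hZA hAU)⟩
  have hcoset : ∀ u ∈ U, ∀ u' ∈ U, ∀ v ∈ U, c u v = c u' v → c (u⁻¹ * u') v = 1 := by
    intro u hu u' hu' v hv h
    have h' := hL u hu (u⁻¹ * u') (U.mul_mem (U.inv_mem hu) hu') v hv
    rw [mul_inv_cancel_left, ← h] at h'
    exact (mul_eq_left₀ (hne u hu v hv)).1 h'.symm
  have e1 : A.relIndex U ≤ Z.relIndex A :=
    relIndex_le_of_pairing c hone (fun u hu v hv w hw => hR u hu v (hAU hv) w (hAU hw))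
      (fun u hu u' hu' h => hperp _ (U.mul_mem (U.inv_mem hu) hu') fun a ha =>
        hsym _ (U.mul_mem (U.inv_mem hu) hu') a (hAU ha) (hcoset u hu u' hu' a (hAU ha) (h a ha)))
      (fun u hu v hv => hsym v (hZU hv) u hu ((hrad v (hZU hv)).2 hv u hu)) hZA
  have e2 : Z.relIndex A ≤ A.relIndex U :=
    relIndex_le_of_pairing c (fun u hu => hone u (hAU hu))
      (fun u hu v hv w hw => hR u (hAU hu) v hv w hw)
      (fun u hu u' hu' h => (hrad _ (U.mul_mem (U.inv_mem (hAU hu)) (hAU hu'))).1 fun v hv =>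
        hcoset u (hAU hu) u' (hAU hu') v hv (h v hv))
      (fun u hu v hv => hAiso u hu v hv) hAU
  rw [← Subgroup.relIndex_mul_relIndex Z A U hZA hAU, le_antisymm e1 e2, sq]

end CfsgLib.BG.FixedLine
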