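import Cfsg.Agent.Lib.BG.FixedLine.Basic
import Cfsg.Agent.Lib.BG.FixedLine.Pairing
import Cfsg.Agent.Lib.BG.FixedLine.Eigen

/-!
A group of class two with scalar centre and a fixed-point-free operator: the counting inequality.
-/

set_option autoImplicit false
set_option linter.style.haveILetI false
set_option linter.unusedSectionVars false

open scoped commutatorElement

namespace CfsgLib.BG.FixedLine

variable {K W Y : Type*} [Field K] [AddCommGroup W] [Module K W] [Group Y] [Finite Y]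
  (ρ : Y →* Module.End K W)

/-- The standing hypotheses. -/
structure Central (U Z : Subgroup Y) (x : Y) (r : ℕ) (lam : Y → K) : Prop where
  hr : r.Prime
  hxr : x ^ r = 1
  hxU : ∀ u ∈ U, x * u * x⁻¹ ∈ U
  hZU : Z ≤ U
  hxZ : ∀ z ∈ Z, x * z = z * x
  hcen : ∀ z ∈ Z, ∀ u ∈ U, z * u = u * z
  hder : ∀ u ∈ U, ∀ v ∈ U, ⁅u, v⁆ ∈ Z
  hlam : ∀ z ∈ Z, ρ z = lam z • 1
  hrad : ∀ u ∈ U, (∀ v ∈ U, lam ⁅u, v⁆ = 1) → u ∈ Z
  hfpf : ∀ u ∈ U, x * u * x⁻¹ * u⁻¹ ∈ Z → u ∈ Z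
  hU0 : (Nat.card U : K) ≠ 0

/-- The commutant of a subgroup. -/
def commS (U : Subgroup Y) : Submodule K (Module.End K W) where
  carrier := {f | ∀ u ∈ U, ρ u * f = f * ρ u}
  add_mem' {a b} ha hb u hu := by rw [mul_add, add_mul, ha u hu, hb u hu]
  zero_mem' u _ := by rw [mul_zero, zero_mul]
  smul_mem' c a ha u hu := by rw [mul_smul_comm, smul_mul_assoc, ha u hu]

theorem mem_commS {U : Subgroup Y} {f : Module.End K W} :
    f ∈ commS ρ U ↔ ∀ u ∈ U, ρ u * f = f * ρ u := Iff.rfl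

/-- A twisted average. -/
noncomputable def twAvg (U : Subgroup Y) (lam : Y → K) (v : Y) :
    Module.End K W →ₗ[K] Module.End K W :=
  haveI := Fintype.ofFinite U
  ∑ u : U, (lam ⁅(u : Y), v⁆)⁻¹ •
    (LinearMap.mulLeft K (ρ (u : Y))).comp (LinearMap.mulRight K (ρ (u : Y)⁻¹))

variable {ρ}

theorem twAvg_apply (U : Subgroup Y) [Fintype U] (lam : Y → K) (v : Y) (f : Module.End K W) :
    twAvg ρ U lam v f = ∑ u : U, (lam ⁅(u : Y), v⁆)⁻¹ • (ρ (u : Y) * (f * ρ (u : Y)⁻¹)) := by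
  unfold twAvg
  rw [LinearMap.sum_apply]
  convert rfl using 2 <;> try (ext; simp)
  all_goals simp

namespace Central

variable [Nontrivial W] {U Z : Subgroup Y} {x : Y} {r : ℕ} {lam : Y → K}
  (h : Central ρ U Z x r lam)

include h

theorem smul_inj {a b : K} {g : Y} (e : a • ρ g = b • ρ g) : a = b := by
  have := congrArg (fun f => f * ρ g⁻¹) e
  simp only [smul_mul_assoc, ← map_mul, mul_inv_cancel, map_one] at this
  exact smul_left_injective K one_ne_zero this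

theorem conj_rho {u v : Y} (hu : u ∈ U) (hv : v ∈ U) :
    ρ u * ρ v * ρ u⁻¹ = lam ⁅u, v⁆ • ρ v := by
  rw [← map_mul, ← map_mul, show u * v * u⁻¹ = ⁅u, v⁆ * v by rw [commutatorElement_def]; group,
    map_mul, h.hlam _ (h.hder u hu v hv), smul_mul_assoc, one_mul]

theorem lam_mul_left {u u' v : Y} (hu : u ∈ U) (hu' : u' ∈ U) (hv : v ∈ U) :
    lam ⁅u * u', v⁆ = lam ⁅u, v⁆ * lam ⁅u', v⁆ := by
  refine h.smul_inj (g := v) ?_
  rw [← h.conj_rho (U.mul_mem hu hu') hv, mul_comm, mul_smul, ← h.conj_rho hu hv, mul_inv_rev,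
    map_mul, map_mul, show ρ u * ρ u' * ρ v * (ρ u'⁻¹ * ρ u⁻¹) = ρ u * (ρ u' * ρ v * ρ u'⁻¹) * ρ u⁻¹ by
      simp only [mul_assoc], h.conj_rho hu' hv, mul_smul_comm, smul_mul_assoc]

theorem lam_mul_right {u v v' : Y} (hu : u ∈ U) (hv : v ∈ U) (hv' : v' ∈ U) :
    lam ⁅u, v * v'⁆ = lam ⁅u, v⁆ * lam ⁅u, v'⁆ := by
  refine h.smul_inj (g := v * v') ?_
  rw [← h.conj_rho hu (U.mul_mem hv hv'), map_mul]
  have : ρ u * (ρ v * ρ v') * ρ u⁻¹ = (ρ u * ρ v * ρ u⁻¹) * (ρ u * ρ v' * ρ u⁻¹) := by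
    have e : ρ u⁻¹ * ρ u = 1 := by rw [← map_mul, inv_mul_cancel, map_one]
    rw [show (ρ u * ρ v * ρ u⁻¹) * (ρ u * ρ v' * ρ u⁻¹) = ρ u * ρ v * (ρ u⁻¹ * ρ u) * ρ v' * ρ u⁻¹ by
      simp only [mul_assoc], e, mul_one]
    simp only [mul_assoc]
  rw [this, h.conj_rho hu hv, h.conj_rho hu hv', smul_mul_smul_comm]

theorem lam_self {u : Y} : lam ⁅u, u⁆ = 1 := by
  have := h.hlam 1 Z.one_mem
  rw [map_one] at this
  rw [commutatorElement_self]
  exact smul_left_injective K (one_ne_zero (α := Module.End K W)) (this.symm.trans (one_smul K 1).symm)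

theorem lam_center {u z : Y} (hu : u ∈ U) (hz : z ∈ Z) : lam ⁅u, z⁆ = 1 := by
  rw [commutatorElement_eq_one_iff_mul_comm.2 (h.hcen z hz u hu).symm, ← commutatorElement_self u]
  exact h.lam_self

theorem lam_rad {u : Y} (hu : u ∈ U) : (∀ v ∈ U, lam ⁅u, v⁆ = 1) ↔ u ∈ Z := by
  refine ⟨h.hrad u hu, fun hz v hv => ?_⟩
  rw [commutatorElement_eq_one_iff_mul_comm.2 (h.hcen u hz v hv), ← commutatorElement_self v]
  exact h.lam_self

theorem lam_ne_zero {u v : Y} (hu : u ∈ U) (hv : v ∈ U) : lam ⁅u, v⁆ ≠ 0 := by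
  intro h0
  have := h.conj_rho hu hv
  rw [h0, zero_smul, ← map_mul, ← map_mul] at this
  have h1 := congrArg (fun f => f * ρ (u * v * u⁻¹)⁻¹) this
  simp only [← map_mul, mul_inv_cancel, map_one, zero_mul] at h1
  exact one_ne_zero h1

theorem exists_index_eq {q : ℕ} (hq : q.Prime) (hU : IsPGroup q U) :
    ∃ n : ℕ, Z.relIndex U = (q ^ n) ^ 2 := by
  haveI := Fact.mk hq
  obtain ⟨m, hm, hmd⟩ := relIndex_radical_eq_sq h.hZU (fun u v => lam ⁅u, v⁆)
    (fun u hu u' hu' v hv => h.lam_mul_left hu hu' hv)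
    (fun u hu v hv v' hv' => h.lam_mul_right hu hv hv') (fun u _ => h.lam_self) (fun u hu => h.lam_rad hu)
  obtain ⟨k, hk⟩ := hU.exists_card_eq
  have : m ∣ q ^ k := hk ▸ hmd.trans (Z.relIndex_dvd_card U)
  obtain ⟨n, -, rfl⟩ := (Nat.dvd_prime_pow hq).1 this
  exact ⟨n, hm⟩

theorem twAvg_conj {v w : Y} (hv : v ∈ U) (hw : w ∈ U) (f : Module.End K W) :
    ρ w * twAvg ρ U lam v f * ρ w⁻¹ = lam ⁅w, v⁆ • twAvg ρ U lam v f := by
  haveI := Fintype.ofFinite U
  rw [twAvg_apply, Finset.mul_sum, Finset.sum_mul, Finset.smul_sum]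
  refine Fintype.sum_equiv (Equiv.mulLeft (⟨w, hw⟩ : U)) _ _ fun u => ?_
  show ρ w * ((lam ⁅(u : Y), v⁆)⁻¹ • (ρ (u : Y) * (f * ρ (u : Y)⁻¹))) * ρ w⁻¹ =
    lam ⁅w, v⁆ • (lam ⁅w * (u : Y), v⁆)⁻¹ • (ρ (w * u) * (f * ρ (w * (u : Y))⁻¹))
  rw [mul_smul_comm, smul_mul_assoc, smul_smul, h.lam_mul_left hw u.2 hv, mul_inv_rev, mul_left_comm,
    mul_inv_cancel₀ (h.lam_ne_zero hw hv), mul_one, mul_inv_rev, map_mul, map_mul]
  simp only [mul_assoc]

theorem untwist_mem {v : Y} (hv : v ∈ U) (f : Module.End K W) :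
    ρ v⁻¹ * twAvg ρ U lam v f ∈ commS ρ U := by
  rw [mem_commS]
  intro w hw
  have e : ρ v⁻¹ * ρ v = 1 := by rw [← map_mul, inv_mul_cancel, map_one]
  have e' : ρ w⁻¹ * ρ w = 1 := by rw [← map_mul, inv_mul_cancel, map_one]
  have e'' : ρ v * ρ v⁻¹ = 1 := by rw [← map_mul, mul_inv_cancel, map_one]
  have h1 : ρ w * ρ v⁻¹ = (lam ⁅w, v⁆)⁻¹ • (ρ v⁻¹ * ρ w) := by
    rw [eq_inv_smul_iff₀ (h.lam_ne_zero hw hv)]
    have := h.conj_rho hw hv
    calc lam ⁅w, v⁆ • (ρ w * ρ v⁻¹) = ρ v⁻¹ * (lam ⁅w, v⁆ • ρ v) * (ρ w * ρ v⁻¹) := by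
          rw [mul_smul_comm, smul_mul_assoc, e, one_mul]
      _ = ρ v⁻¹ * (ρ w * ρ v * ρ w⁻¹) * (ρ w * ρ v⁻¹) := by rw [this]
      _ = ρ v⁻¹ * ρ w * ρ v * ((ρ w⁻¹ * ρ w) * ρ v⁻¹) := by simp only [mul_assoc]
      _ = ρ v⁻¹ * ρ w := by rw [e', one_mul, mul_assoc, e'', mul_one]
  have h2 : ρ w * twAvg ρ U lam v f = lam ⁅w, v⁆ • (twAvg ρ U lam v f * ρ w) := by
    rw [← smul_mul_assoc, ← h.twAvg_conj hv hw f, mul_assoc _ (ρ w⁻¹), e', mul_one]
  rw [← mul_assoc, h1, smul_mul_assoc, mul_assoc, h2, mul_smul_comm, smul_smul,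
    inv_mul_cancel₀ (h.lam_ne_zero hw hv), one_smul, mul_assoc]

theorem sum_twAvg [Fintype U] (f : Module.End K W) :
    ∑ v : U, twAvg ρ U lam (v : Y) f = ((Nat.card U : K) * (Nat.card Z : K)) • f := by
  classical
  simp only [twAvg_apply]
  rw [Finset.sum_comm]
  simp only [← Finset.sum_smul]
  have hval : ∀ u : U, ∑ v : U, (lam ⁅(u : Y), (v : Y)⁆)⁻¹ =
      if (u : Y) ∈ Z then (Nat.card U : K) else 0 := by
    intro u
    split_ifs with hu
    · simp [(h.lam_rad u.2).2 hu _ (Subtype.coe_prop _), Nat.card_eq_fintype_card]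
    · obtain ⟨w, hw, hne⟩ : ∃ w ∈ U, lam ⁅(u : Y), w⁆ ≠ 1 := by
        by_contra hh
        push Not at hh
        exact hu (h.hrad u u.2 hh)
      have key : (lam ⁅(u : Y), w⁆)⁻¹ * ∑ v : U, (lam ⁅(u : Y), (v : Y)⁆)⁻¹ =
          ∑ v : U, (lam ⁅(u : Y), (v : Y)⁆)⁻¹ := by
        rw [Finset.mul_sum]
        exact Fintype.sum_equiv (Equiv.mulLeft (⟨w, hw⟩ : U)) _ _ fun v => by
          simp [h.lam_mul_right u.2 hw v.2, mul_comm]
      by_contra h0
      exact hne (inv_eq_one.1 ((mul_eq_right₀ h0).1 key))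
  simp only [hval, ite_smul, zero_smul]
  have hterm : ∀ u : U, (u : Y) ∈ Z → ρ (u : Y) * (f * ρ (u : Y)⁻¹) = f := by
    intro u hu
    have e : ρ (u : Y) * ρ (u : Y)⁻¹ = 1 := by rw [← map_mul, mul_inv_cancel, map_one]
    rw [h.hlam _ hu, smul_mul_assoc, one_mul, ← mul_smul_comm]
    rw [h.hlam _ hu, smul_mul_assoc, one_mul] at e
    rw [e, mul_one]
  rw [← Finset.sum_filter, Finset.sum_congr rfl (fun u hu => by
    rw [hterm u (Finset.mem_filter.1 hu).2]), Finset.sum_const, ← Nat.cast_smul_eq_nsmul K, smul_smul,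
    mul_comm]
  congr 3
  rw [← Fintype.card_subtype, ← Nat.card_eq_fintype_card]
  exact Nat.card_congr ⟨fun u => ⟨(u.1 : Y), u.2⟩, fun z => ⟨⟨z, h.hZU z.2⟩, z.2⟩,
    fun _ => rfl, fun _ => rfl⟩

theorem twAvg_mul_center {v z : Y} (hv : v ∈ U) (hz : z ∈ Z) :
    twAvg ρ U lam (v * z) = twAvg ρ U lam v := by
  haveI := Fintype.ofFinite U
  refine LinearMap.ext fun f => ?_
  rw [twAvg_apply, twAvg_apply]
  exact Finset.sum_congr rfl fun u _ => by
    rw [h.lam_mul_right u.2 hv (h.hZU hz), h.lam_center u.2 hz, mul_one]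

theorem twAvg_conj_x {v : Y} (hv : v ∈ U) {f : Module.End K W} (hf : f ∈ comm (ρ x)) :
    ρ x * twAvg ρ U lam v f * ρ x⁻¹ = twAvg ρ U lam (x * v * x⁻¹) f := by
  haveI := Fintype.ofFinite U
  let m : U → U := fun u => ⟨x * (u : Y) * x⁻¹, h.hxU u u.2⟩
  have hm : Function.Injective m := fun a b e => Subtype.ext (by
    simpa [m] using congrArg Subtype.val e)
  rw [twAvg_apply, twAvg_apply, Finset.mul_sum, Finset.sum_mul]
  refine Fintype.sum_bijective m (Finite.injective_iff_bijective.1 hm) _ _ fun u => ?_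
  have hl : ⁅x * (u : Y) * x⁻¹, x * v * x⁻¹⁆ = ⁅(u : Y), v⁆ := by
    have hz := h.hxZ _ (h.hder u u.2 v hv)
    calc ⁅x * (u : Y) * x⁻¹, x * v * x⁻¹⁆ = x * ⁅(u : Y), v⁆ * x⁻¹ := by
          simp only [commutatorElement_def]; group
      _ = _ := by rw [hz, mul_inv_cancel_right]
  show ρ x * ((lam ⁅(u : Y), v⁆)⁻¹ • (ρ (u : Y) * (f * ρ (u : Y)⁻¹))) * ρ x⁻¹ =
    (lam ⁅x * (u : Y) * x⁻¹, x * v * x⁻¹⁆)⁻¹ •
      (ρ (x * u * x⁻¹) * (f * ρ (x * (u : Y) * x⁻¹)⁻¹))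
  rw [hl, mul_smul_comm, smul_mul_assoc]
  congr 1
  have hfx : ρ x⁻¹ * f * ρ x = f := by
    rw [mul_assoc, ← mem_comm.1 hf, ← mul_assoc, ← map_mul, inv_mul_cancel, map_one, one_mul]
  rw [show (x * (u : Y) * x⁻¹)⁻¹ = x * (u : Y)⁻¹ * x⁻¹ by group, map_mul, map_mul, map_mul, map_mul]
  conv_lhs => rw [← hfx]
  simp only [mul_assoc]

variable [FiniteDimensional K W]

theorem index_mul_le :
    Z.relIndex U * Module.finrank K (commS ρ U) ≤ Module.finrank K W ^ 2 := by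
  classical
  haveI := Fintype.ofFinite U
  haveI := Fintype.ofFinite (U ⧸ Z.subgroupOf U)
  let φ : ((U ⧸ Z.subgroupOf U) → commS ρ U) →ₗ[K] Module.End K W :=
    { toFun := fun b => ∑ i, ρ ((i.out : U) : Y) * (b i : Module.End K W)
      map_add' := fun a b => by simp [mul_add, Finset.sum_add_distrib]
      map_smul' := fun c a => by simp [mul_smul_comm, Finset.smul_sum] }
  have hφ : Function.Injective φ := by
    rw [injective_iff_map_eq_zero]
    intro b hb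
    funext j
    have h0 : twAvg ρ U lam ((j.out : U) : Y) (φ b) = 0 := by rw [hb, map_zero]
    have hterm : ∀ i, twAvg ρ U lam ((j.out : U) : Y) (ρ ((i.out : U) : Y) * (b i : Module.End K W)) =
        if i = j then (Nat.card U : K) • (ρ ((i.out : U) : Y) * (b i : Module.End K W)) else 0 := by
      intro i
      rw [twAvg_apply]
      have e : ∀ u : U, ρ (u : Y) * (ρ ((i.out : U) : Y) * (b i : Module.End K W) * ρ (u : Y)⁻¹) =
          lam ⁅(u : Y), ((i.out : U) : Y)⁆ • (ρ ((i.out : U) : Y) * (b i : Module.End K W)) := by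
        intro u
        rw [← smul_mul_assoc, ← h.conj_rho u.2 (i.out).2]
        simp only [mul_assoc, (b i).2 _ (U.inv_mem u.2)]
      simp only [e, smul_smul, ← Finset.sum_smul]
      split_ifs with hij
      · subst hij
        congr 1
        rw [Finset.sum_congr rfl (g := fun _ => (1 : K)) (fun (u : U) _ =>
            inv_mul_cancel₀ (h.lam_ne_zero u.2 (i.out).2)),
          Finset.sum_const, Finset.card_univ, nsmul_one, Nat.card_eq_fintype_card]
      · convert zero_smul K _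
        have hnot : ((j.out : U) : Y)⁻¹ * ((i.out : U) : Y) ∉ Z := fun hz => hij (by
          rw [← QuotientGroup.out_eq' i, ← QuotientGroup.out_eq' j]
          exact (QuotientGroup.eq.2 (Subgroup.mem_subgroupOf.2 (by simpa using hz))).symm)
        set d := ((j.out : U) : Y)⁻¹ * ((i.out : U) : Y) with hd
        have hdU : d ∈ U := U.mul_mem (U.inv_mem (j.out).2) (i.out).2
        have hterm' : ∀ u : U, (lam ⁅(u : Y), ((j.out : U) : Y)⁆)⁻¹ * lam ⁅(u : Y), ((i.out : U) : Y)⁆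
            = lam ⁅(u : Y), d⁆ := fun u => by
          have := h.lam_mul_right u.2 (j.out).2 hdU
          rw [hd, mul_inv_cancel_left] at this
          rw [this, ← mul_assoc, inv_mul_cancel₀ (h.lam_ne_zero u.2 (j.out).2), one_mul]
        simp only [hterm']
        obtain ⟨w, hw, hne⟩ : ∃ w ∈ U, lam ⁅w, d⁆ ≠ 1 := by
          by_contra hh
          push Not at hh
          refine hnot (h.hrad d hdU fun v hv => ?_)
          have hs : lam ⁅d * v, d * v⁆ = lam ⁅d, v⁆ * lam ⁅v, d⁆ := by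
            rw [h.lam_mul_left hdU hv (U.mul_mem hdU hv), h.lam_mul_right hdU hdU hv,
              h.lam_mul_right hv hdU hv, h.lam_self, h.lam_self, one_mul, mul_one]
          rw [h.lam_self, hh v hv, mul_one] at hs
          exact hs.symm
        by_contra h0
        refine hne ((mul_eq_right₀ h0).1 ?_)
        rw [Finset.mul_sum]
        exact Fintype.sum_equiv (Equiv.mulLeft (⟨w, hw⟩ : U)) _ _ fun u => by
          simp [h.lam_mul_left hw u.2 hdU]
    have h1 : twAvg ρ U lam ((j.out : U) : Y) (φ b) =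
        (Nat.card U : K) • (ρ ((j.out : U) : Y) * (b j : Module.End K W)) := by
      show twAvg ρ U lam _ (∑ i, ρ ((i.out : U) : Y) * (b i : Module.End K W)) = _
      rw [map_sum, Finset.sum_congr rfl fun i _ => hterm i, Finset.sum_ite_eq', if_pos (Finset.mem_univ _)]
    rw [h0] at h1
    have h2 := (smul_eq_zero.1 h1.symm).resolve_left h.hU0
    have h3 := congrArg (fun t => ρ ((j.out : U) : Y)⁻¹ * t) h2
    simp only [← mul_assoc, ← map_mul, inv_mul_cancel, map_one, one_mul, mul_zero] at h3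
    exact Subtype.ext h3
  have := LinearMap.finrank_le_finrank_of_injective hφ
  rw [Module.finrank_pi_fintype, Finset.sum_const, Finset.card_univ, Module.finrank_linearMap,
    smul_eq_mul] at this
  rw [Subgroup.relIndex, Subgroup.index, Nat.card_eq_fintype_card, sq]
  exact this

end Central

end CfsgLib.BG.FixedLine
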