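import Cfsg.Agent.Lib.BG.FixedLine.Central

/-!
The commutant of a fixed-point-free operator and the two resulting inequalities.
-/

set_option autoImplicit false
set_option linter.style.haveILetI false
set_option linter.unusedSectionVars false

open scoped commutatorElement

namespace CfsgLib.BG.FixedLine

variable {K W Y : Type*} [Field K] [AddCommGroup W] [Module K W] [Group Y] [Finite Y]
  {ρ : Y →* Module.End K W}

namespace Central

variable [Nontrivial W] [FiniteDimensional K W] {U Z : Subgroup Y} {x : Y} {r : ℕ} {lam : Y → K}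
  (h : Central ρ U Z x r lam)

include h

theorem pow_conj_mem_iff {v : Y} (hv : v ∈ U) :
    x * v * x⁻¹ ∈ Z ↔ v ∈ Z := by
  constructor
  · intro hz
    have := h.hxZ _ hz
    have e : x * (x * v * x⁻¹) * x⁻¹ = x * v * x⁻¹ := by rw [this, mul_inv_cancel_right]
    have hv' : x * v * x⁻¹ = v := mul_left_cancel (mul_right_cancel e)
    rwa [hv'] at hz
  · intro hz
    rwa [h.hxZ v hz, mul_inv_cancel_right]

theorem comm_dim_le :
    ∃ o : ℕ, Z.relIndex U = 1 + o * r ∧
      Module.finrank K (comm (ρ x)) ≤ Module.finrank K ↥(commS ρ U ⊓ comm (ρ x)) +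
        o * Module.finrank K (commS ρ U) := by
  classical
  haveI := Fintype.ofFinite U
  haveI := Fintype.ofFinite (U ⧸ Z.subgroupOf U)
  let c : U → U := fun u => ⟨x * (u : Y) * x⁻¹, h.hxU u u.2⟩
  let π : U → U ⧸ Z.subgroupOf U := QuotientGroup.mk
  have hπ : ∀ u v : U, π u = π v ↔ (u : Y)⁻¹ * (v : Y) ∈ Z := fun u v => by
    show QuotientGroup.mk u = QuotientGroup.mk v ↔ _
    rw [QuotientGroup.eq, Subgroup.mem_subgroupOf]
    simp
  have hout : ∀ i, π i.out = i := fun i => QuotientGroup.out_eq' i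
  have hc : ∀ u v : U, π (c u) = π (c v) ↔ π u = π v := by
    intro u v
    rw [hπ, hπ]
    rw [show (c u : Y)⁻¹ * (c v : Y) = x * ((u : Y)⁻¹ * (v : Y)) * x⁻¹ by
      show (x * (u : Y) * x⁻¹)⁻¹ * (x * (v : Y) * x⁻¹) = _; group]
    exact h.pow_conj_mem_iff (U.mul_mem (U.inv_mem u.2) v.2)
  let σf : U ⧸ Z.subgroupOf U → U ⧸ Z.subgroupOf U := fun i => π (c i.out)
  have hσf : ∀ u, σf (π u) = π (c u) := fun u => (hc _ _).2 (hout _)
  have hinj : Function.Injective σf := fun i j e => by
    rw [← hout i, ← hout j]; exact (hc _ _).1 e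
  let σ : Equiv.Perm (U ⧸ Z.subgroupOf U) := Equiv.ofBijective σf (Finite.injective_iff_bijective.1 hinj)
  have hσ1 : ∀ i, σ i = i ↔ i = π 1 := by
    intro i
    obtain ⟨u, rfl⟩ : ∃ u, π u = i := ⟨i.out, hout i⟩
    show σf (π u) = π u ↔ _
    rw [hσf, hπ, hπ]
    constructor
    · intro e
      have e2 : (u : Y)⁻¹ * (c u : Y) ∈ Z := by
        have := Z.inv_mem e
        rwa [mul_inv_rev, inv_inv] at this
      have e3 : (c u : Y) * (u : Y)⁻¹ = (u : Y)⁻¹ * (c u : Y) := by
        have := h.hcen _ e2 u u.2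
        calc (c u : Y) * (u : Y)⁻¹ = (u : Y) * ((u : Y)⁻¹ * (c u : Y)) * (u : Y)⁻¹ := by group
          _ = _ := by rw [← this, mul_inv_cancel_right]
      have := h.hfpf u u.2 (show (c u : Y) * (u : Y)⁻¹ ∈ Z by rw [e3]; exact e2)
      simpa using Z.inv_mem this
    · intro e
      have hu : (u : Y) ∈ Z := by simpa using Z.inv_mem e
      show (x * (u : Y) * x⁻¹)⁻¹ * (u : Y) ∈ Z
      exact Z.mul_mem (Z.inv_mem ((h.pow_conj_mem_iff u.2).2 hu)) hu
  have hσr : σ ^ r = 1 := by
    have key : ∀ (n : ℕ) (u : U), ∃ w : U, (σ ^ n) (π u) = π w ∧ (w : Y) = x ^ n * u * (x ^ n)⁻¹ := by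
      intro n
      induction n with
      | zero => exact fun u => ⟨u, by simp, by simp⟩
      | succ n ih =>
        intro u
        obtain ⟨w, hw, hwe⟩ := ih u
        refine ⟨c w, ?_, ?_⟩
        · rw [pow_succ', Equiv.Perm.mul_apply, hw]; exact hσf w
        · show x * (w : Y) * x⁻¹ = _
          rw [hwe, pow_succ']; group
    refine Equiv.ext fun i => ?_
    obtain ⟨u, rfl⟩ : ∃ u, π u = i := ⟨i.out, hout i⟩
    obtain ⟨w, hw, hwe⟩ := key r u
    rw [hw, Equiv.Perm.one_apply]
    congr 1
    exact Subtype.ext (by simp [hwe, h.hxr])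
  let S := {i : U ⧸ Z.subgroupOf U // i ≠ π 1}
  let G := Subgroup.zpowers σ
  have hG : ∀ (g : G) (i : U ⧸ Z.subgroupOf U), i ≠ π 1 → (g : Equiv.Perm _) i ≠ π 1 := by
    intro g i hi e
    obtain ⟨k, hk⟩ := Subgroup.mem_zpowers_iff.1 g.2
    rw [← hk] at e
    have h1 : ∀ k : ℤ, (σ ^ k) (π 1) = π 1 := fun k =>
      Equiv.Perm.zpow_apply_eq_self_of_apply_eq_self ((hσ1 _).2 rfl) k
    exact hi ((σ ^ k).injective (e.trans (h1 k).symm))
  letI : MulAction G S :=
    { smul := fun g i => ⟨(g : Equiv.Perm _) i.1, hG g i.1 i.2⟩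
      one_smul := fun i => Subtype.ext rfl
      mul_smul := fun g g' i => Subtype.ext rfl }
  haveI := Fintype.ofFinite (Quotient (MulAction.orbitRel G S))
  have hfree : ∀ i : S, MulAction.stabilizer G i = ⊥ := by
    intro i
    rw [eq_bot_iff]
    intro g hg
    rw [Subgroup.mem_bot]
    have hg' : (g : Equiv.Perm _) i.1 = i.1 := congrArg Subtype.val hg
    by_contra hg1
    obtain ⟨k, hk⟩ := Subgroup.mem_zpowers_iff.1 g.2
    have hord : orderOf σ ∣ r := orderOf_dvd_of_pow_eq_one hσr
    rcases h.hr.eq_one_or_self_of_dvd _ hord with h1 | h1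
    · exact i.2 ((hσ1 _).1 (by rw [orderOf_eq_one_iff.1 h1]; rfl))
    have hk' : ¬ (r : ℤ) ∣ k := fun hd => hg1 (Subtype.ext (by
      rw [← hk, ← h1] at *
      exact (orderOf_dvd_iff_zpow_eq_one.1 hd)))
    have hco : IsCoprime (r : ℤ) k := (Nat.prime_iff_prime_int.1 h.hr).coprime_iff_not_dvd.2 hk'
    obtain ⟨a, b, hab⟩ := hco
    have : σ = (σ ^ k) ^ b := by
      conv_lhs => rw [← zpow_one σ, ← hab]
      rw [zpow_add, mul_comm a, zpow_mul, zpow_natCast, hσr, one_zpow, one_mul, mul_comm b, zpow_mul]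
    refine i.2 ((hσ1 _).1 ?_)
    rw [this]
    exact Equiv.Perm.zpow_apply_eq_self_of_apply_eq_self (by rw [hk]; exact hg') b
  refine ⟨Nat.card (Quotient (MulAction.orbitRel G S)), ?_, ?_⟩
  · have e := Nat.card_congr (MulAction.selfEquivOrbitsQuotientProd hfree)
    rw [Nat.card_prod] at e
    have hS : Nat.card (U ⧸ Z.subgroupOf U) = Nat.card S + 1 := by
      rw [← Nat.card_congr (Equiv.optionSubtypeNe (π 1))]
      exact Finite.card_option
    rw [Subgroup.relIndex, Subgroup.index, hS, e, add_comm]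
    congr 1
    rcases isEmpty_or_nonempty S with hE | hE
    · haveI : IsEmpty (Quotient (MulAction.orbitRel G S)) := ⟨fun q => Quotient.inductionOn' q hE.false⟩
      simp
    · obtain ⟨i⟩ := hE
      congr 1
      rw [Nat.card_zpowers]
      refine (h.hr.eq_one_or_self_of_dvd _ (orderOf_dvd_of_pow_eq_one hσr)).resolve_left fun h1 => ?_
      exact i.2 ((hσ1 _).1 (by rw [orderOf_eq_one_iff.1 h1]; rfl))
  have hzero : ∀ u : U, twAvg ρ U lam ((π u).out : Y) = twAvg ρ U lam (u : Y) := by
    intro u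
    have hz := (hπ u (π u).out).1 (hout (π u)).symm
    conv_lhs => rw [← mul_inv_cancel_left (u : Y) ((π u).out : Y)]
    exact h.twAvg_mul_center u.2 hz
  let Ψ : comm (ρ x) →ₗ[K] ↥(commS ρ U ⊓ comm (ρ x)) × (Quotient (MulAction.orbitRel G S) → commS ρ U) :=
    { toFun := fun f =>
        (⟨twAvg ρ U lam 1 f, by
          refine ⟨?_, mem_comm.2 ?_⟩
          · have := h.untwist_mem U.one_mem (f : Module.End K W)
            rwa [inv_one, map_one, one_mul] at this
          · have h1 := h.twAvg_conj_x U.one_mem f.2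
            rw [mul_one, mul_inv_cancel] at h1
            calc ρ x * twAvg ρ U lam 1 f =
                  ρ x * twAvg ρ U lam 1 f * (ρ x⁻¹ * ρ x) := by
                    rw [← map_mul, inv_mul_cancel, map_one, mul_one]
              _ = _ := by rw [← mul_assoc, h1]⟩,
        fun o => ⟨ρ ((o.out.1.out : U) : Y)⁻¹ * twAvg ρ U lam ((o.out.1.out : U) : Y) f,
          h.untwist_mem (o.out.1.out).2 _⟩)
      map_add' := fun a b => by
        refine Prod.ext (Subtype.ext ?_) (funext fun o => Subtype.ext ?_) <;> simp [mul_add]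
      map_smul' := fun k a => by
        refine Prod.ext (Subtype.ext ?_) (funext fun o => Subtype.ext ?_) <;> simp }
  have hΨ : Function.Injective Ψ := by
    rw [injective_iff_map_eq_zero]
    intro f hf
    have hA : twAvg ρ U lam 1 (f : Module.End K W) = 0 :=
      congrArg Subtype.val (congrArg Prod.fst hf)
    let good : U ⧸ Z.subgroupOf U → Prop := fun i => twAvg ρ U lam (i.out : Y) (f : Module.End K W) = 0
    have hgood : ∀ u : U, good (π u) ↔ twAvg ρ U lam (u : Y) (f : Module.End K W) = 0 := fun u => by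
      show _ = 0 ↔ _; rw [hzero u]
    have hstep : ∀ i, good i → good (σ i) := by
      intro i hi
      obtain ⟨u, rfl⟩ : ∃ u, π u = i := ⟨i.out, hout i⟩
      show good (σf (π u))
      rw [hσf, hgood]
      rw [hgood] at hi
      show twAvg ρ U lam (x * (u : Y) * x⁻¹) (f : Module.End K W) = 0
      rw [← h.twAvg_conj_x u.2 f.2, hi, mul_zero, zero_mul]
    have hall : ∀ i, good i := by
      intro i
      by_cases hi : i = π 1
      · rw [hi, hgood]; exact hA
      set o : Quotient (MulAction.orbitRel G S) := Quotient.mk'' ⟨i, hi⟩ with ho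
      have hrep : good o.out.1 := by
        have := congrArg Subtype.val (congrFun (congrArg Prod.snd hf) o)
        have h2 := congrArg (fun t => ρ ((o.out.1.out : U) : Y) * t) this
        simp only [Ψ, LinearMap.coe_mk, AddHom.coe_mk, Prod.snd_zero, Pi.zero_apply, ZeroMemClass.coe_zero,
          ← mul_assoc, ← map_mul, mul_inv_cancel, map_one, one_mul, mul_zero] at h2
        exact h2
      have hrel : (⟨i, hi⟩ : S) ∈ MulAction.orbit G o.out := by
        have := Quotient.out_eq' o
        rw [ho] at this ⊢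
        exact MulAction.orbitRel_apply.1 (Quotient.exact' this.symm)
      obtain ⟨g, hg⟩ := hrel
      have e : (g : Equiv.Perm _) o.out.1 = i := congrArg Subtype.val hg
      have hfin : IsOfFinOrder σ := isOfFinOrder_of_finite σ
      obtain ⟨m, hm⟩ := hfin.mem_powers_iff_mem_zpowers.2 g.2
      rw [← e, ← show σ ^ m = (g : Equiv.Perm _) from hm]
      clear e hm hg
      induction m with
      | zero => simpa using hrep
      | succ m ih => rw [pow_succ', Equiv.Perm.mul_apply]; exact hstep _ ih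
    have hsum := h.sum_twAvg (f : Module.End K W)
    rw [Finset.sum_eq_zero (fun u _ => (hgood u).1 (hall _))] at hsum
    have hZ0 : (Nat.card Z : K) ≠ 0 := fun h0 => by
      obtain ⟨k, hk⟩ := Subgroup.card_dvd_of_le h.hZU
      exact h.hU0 (by rw [hk, Nat.cast_mul, h0, zero_mul])
    exact Subtype.ext ((smul_eq_zero.1 hsum.symm).resolve_left (mul_ne_zero h.hU0 hZ0))
  have := LinearMap.finrank_le_finrank_of_injective hΨ
  rw [Module.finrank_prod, Module.finrank_pi_fintype, Finset.sum_const, Finset.card_univ,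
    ← Nat.card_eq_fintype_card, smul_eq_mul] at this
  exact this

theorem finrank_commS_pos : 0 < Module.finrank K (commS ρ U) := by
  have : (1 : Module.End K W) ∈ commS ρ U := fun u _ => by rw [mul_one, one_mul]
  exact Module.finrank_pos_iff_exists_ne_zero.2 ⟨⟨1, this⟩, fun e => one_ne_zero (congrArg Subtype.val e)⟩

theorem pow_rho : ρ x ^ r = 1 := by rw [← map_pow, h.hxr, map_one]

end Central

end CfsgLib.BG.FixedLine
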