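import Cfsg.Agent.Lib.BG.FixedLine.Setup
import Cfsg.Agent.Lib.BG.FixedLine.Bounds

/-!
BG 3.4: an element of prime order without fixed points on the module centralizes a coprime `q`-group.
-/

set_option autoImplicit false
set_option linter.style.haveILetI false
set_option linter.unusedSectionVars false

open scoped commutatorElement

namespace CfsgLib.BG.FixedLine

open CfsgLib.Coprime

variable {K W Y : Type*} [Field K] [IsAlgClosed K] [AddCommGroup W] [Module K W]
  [FiniteDimensional K W] [Group Y] [Finite Y] {ρ : Y →* Module.End K W} {x : Y} {r q : ℕ}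

theorem fpf_central_inj (hinj : Function.Injective ρ) (hr : r.Prime) (hq : q.Prime) (hqr : q ≠ r)
    (hr0 : (r : K) ≠ 0) (hq0 : (q : K) ≠ 0) (hxr : x ^ r = 1) (hfix : fix ρ x = ⊥) :
    ∀ U : Subgroup Y, IsPGroup q U → (∀ u ∈ U, x * u * x⁻¹ ∈ U) →
      (∀ u ∈ U, x * u = u * x) ∨
        ((q = 2 ∧ ∃ n, r = 2 ^ n + 1) ∧ ∃ a ∈ U, ∃ b ∈ U, a * b ≠ b * a) := by
  haveI := Fact.mk hq
  intro U
  induction hn : Nat.card U using Nat.strong_induction_on generalizing U with
  | _ n ih =>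
  intro hU hxU
  subst hn
  by_cases hex : (q = 2 ∧ ∃ n, r = 2 ^ n + 1) ∧ ∃ a ∈ U, ∃ b ∈ U, a * b ≠ b * a
  · exact Or.inr hex
  left
  have hproper : ∀ V : Subgroup Y, V < U → (∀ u ∈ V, x * u * x⁻¹ ∈ V) → ∀ u ∈ V, x * u = u * x := by
    intro V hV hxV
    refine (ih (Nat.card V) (Set.Finite.card_lt_card (Set.toFinite _) (SetLike.coe_ssubset_coe.2 hV)) V rfl (hU.to_le hV.le) hxV).resolve_right ?_
    rintro ⟨h1, a, ha, b, hb, hab⟩
    exact hex ⟨h1, a, hV.le ha, b, hV.le hb, hab⟩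
  set A := Subgroup.zpowers x with hA
  have hAU := zpowers_le_normalizer hxU
  have hcop := coprime_zpowers hq hr hqr hU hxr
  have hsolv : Group.IsSolvable A ∨ Group.IsSolvable U :=
    Or.inr (by haveI := hU.isNilpotent; infer_instance)
  by_cases hcomm : ⁅U, A⁆ = U
  swap
  · refine le_centralizer_zpowers.1 ?_
    have hlt := lt_of_le_of_ne (commutator_le_left_of_le_normalizer hAU) hcomm
    have h := hproper _ hlt (conj_mem_of_le_normalizer
      (le_normalizer_commutator hAU Subgroup.le_normalizer (Subgroup.mem_zpowers x)))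
    have h1 : ⁅⁅U, A⁆, A⁆ = ⊥ :=
      Subgroup.commutator_eq_bot_iff_le_centralizer.2 (le_centralizer_zpowers.2 h)
    rw [commutator_commutator_eq hAU hcop hsolv] at h1
    exact Subgroup.commutator_eq_bot_iff_le_centralizer.1 h1
  -- `U = [U, x]`
  suffices U = ⊥ by intro u hu; rw [this, Subgroup.mem_bot] at hu; rw [hu]; simp
  by_contra hU1
  have hU0 := natCast_ne_zero_of_isPGroup hU hq0
  have hcentral : ∀ N : Subgroup Y, N < U → (∀ u ∈ N, x * u * x⁻¹ ∈ N) →
      U ≤ Subgroup.normalizer (N : Set Y) → ∀ z ∈ N, ∀ u ∈ U, z * u = u * z := fun N hN hxN hNU =>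
    central_of_centralizes hNU (le_centralizer_zpowers.2 (hproper N hN hxN)) hcomm
  by_cases hab : ∀ a ∈ U, ∀ b ∈ U, a * b = b * a
  · haveI : IsMulCommutative U := ⟨⟨fun a b => Subtype.ext (hab a a.2 b b.2)⟩⟩
    have hC : ∀ u ∈ U, x * u = u * x → u = 1 := by
      intro u hu he
      have h := centralizer_inf_commutator_eq_bot hAU hcop
      rw [hcomm] at h
      have : u ∈ U ⊓ Subgroup.centralizer (A : Set Y) ⊓ U := by
        refine ⟨⟨hu, fun g hg => ?_⟩, hu⟩
        obtain ⟨i, rfl⟩ := Subgroup.mem_zpowers_iff.1 hg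
        exact ((show Commute x u from he).zpow_left i).eq
      rwa [h, Subgroup.mem_bot] at this
    refine hU1 ((Subgroup.eq_bot_iff_forall U).2 fun u hu => hinj ?_)
    rw [map_one]
    exact eq_one_of_fpf ρ hr hxr hxU hU0 hC (fun v hv => by
      have : v ∈ fix ρ x := hv
      rwa [hfix, Submodule.mem_bot] at this) u hu
  push Not at hab
  obtain ⟨a, ha, b, hb, hne⟩ := hab
  set D := ⁅U, U⁆ with hD
  haveI := hU.isNilpotent
  have hDlt : D < U := commutator_lt_of_isNilpotent (X := U) le_rfl le_rfl Subgroup.le_normalizer hU1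
  have hxD : ∀ u ∈ D, x * u * x⁻¹ ∈ D := conj_mem_of_le_normalizer
    (le_normalizer_commutator hAU hAU (Subgroup.mem_zpowers x))
  have hDcen : ∀ z ∈ D, ∀ u ∈ U, z * u = u * z := hcentral D hDlt hxD
    (le_normalizer_commutator Subgroup.le_normalizer Subgroup.le_normalizer)
  set Z := U ⊓ Subgroup.centralizer (U : Set Y) with hZ
  have hDZ : D ≤ Z := fun z hz => ⟨hDlt.le hz, fun u hu => (hDcen z hz u hu).symm⟩
  have hZU : Z ≤ U := inf_le_left
  have hZlt : Z < U := lt_of_le_of_ne hZU fun e => hne ((e.ge hb).2 a ha)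
  have hxZ : ∀ z ∈ Z, x * z * x⁻¹ ∈ Z := conj_mem_of_le_normalizer
    (le_normalizer_inf_of_le hAU (le_normalizer_centralizer hAU) (Subgroup.mem_zpowers x))
  have hZx := hproper Z hZlt hxZ
  have hZc : ∀ z ∈ Z, ∀ u ∈ U, z * u = u * z := fun z hz u hu => (hz.2 u hu).symm
  have hnorm : ∀ N : Subgroup Y, D ≤ N → N ≤ U → U ≤ Subgroup.normalizer (N : Set Y) := by
    intro N hDN hNU u hu
    exact mem_normalizer_of_conj fun v hv => by
      rw [show u * v * u⁻¹ = ⁅u, v⁆ * v by rw [commutatorElement_def]; group]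
      exact N.mul_mem (hDN (Subgroup.commutator_mem_commutator hu (hNU hv))) hv
  have hcenU : ∀ N : Subgroup Y, D ≤ N → N < U → (∀ u ∈ N, x * u * x⁻¹ ∈ N) → N ≤ Z :=
    fun N hDN hNlt hxN v hv =>
      ⟨hNlt.le hv, fun u hu => (hcentral N hNlt hxN (hnorm N hDN hNlt.le) v hv u hu).symm⟩
  have hfpf : ∀ u ∈ U, x * u * x⁻¹ * u⁻¹ ∈ Z → u ∈ Z := by
    intro u hu hz
    have hW : (Z ⊔ Subgroup.zpowers u) < U := by
      refine lt_of_le_of_ne (sup_le hZU (Subgroup.zpowers_le.2 hu)) fun e => hne ?_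
      have hcl : Z ⊔ Subgroup.zpowers u ≤ Subgroup.centralizer ({u} : Set Y) :=
        sup_le (fun z hz' w hw => by rw [Set.mem_singleton_iff] at hw; subst hw; exact (hZc z hz' w hu).symm)
          (Subgroup.zpowers_le.2 (fun w hw => by rw [Set.mem_singleton_iff] at hw; subst hw; rfl))
      have hall : ∀ w ∈ U, Z ⊔ Subgroup.zpowers u ≤ Subgroup.centralizer ({w} : Set Y) := by
        intro w hw
        refine sup_le (fun z hz' t ht => ?_) (Subgroup.zpowers_le.2 fun t ht => ?_)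
        · rw [Set.mem_singleton_iff] at ht; subst ht; exact (hZc z hz' t hw).symm
        · rw [Set.mem_singleton_iff] at ht; subst ht; exact (hcl (e.ge hw) u rfl).symm
      exact (hall b hb (e.ge ha) b rfl).symm
    have hxW : ∀ v ∈ Z ⊔ Subgroup.zpowers u, x * v * x⁻¹ ∈ Z ⊔ Subgroup.zpowers u := by
      intro v hv
      have hle : Z ⊔ Subgroup.zpowers u ≤ (Z ⊔ Subgroup.zpowers u).comap (MulAut.conj x).toMonoidHom :=
        sup_le (fun z hz' => Subgroup.mem_sup_left (hxZ z hz')) (Subgroup.zpowers_le.2 (by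
          show x * u * x⁻¹ ∈ Z ⊔ Subgroup.zpowers u
          rw [show x * u * x⁻¹ = (x * u * x⁻¹ * u⁻¹) * u by group]
          exact mul_mem (Subgroup.mem_sup_left hz) (Subgroup.mem_sup_right (Subgroup.mem_zpowers u))))
      exact hle hv
    exact hcenU _ (hDZ.trans le_sup_left) hW hxW (Subgroup.mem_sup_right (Subgroup.mem_zpowers u))
  -- a piece on which the commutator is a nontrivial scalar
  have hz0 : ⁅a, b⁆ ∈ Z := hDZ (Subgroup.commutator_mem_commutator ha hb)
  have hρz : ρ ⁅a, b⁆ ≠ 1 := fun e =>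
    hne (commutatorElement_eq_one_iff_mul_comm.1 (hinj (e.trans (map_one ρ).symm)))
  have hord : (orderOf ⁅a, b⁆ : K) ≠ 0 := fun e => by
    obtain ⟨k, hk⟩ := (Subgroup.orderOf_dvd_natCard U (hZU hz0))
    exact hU0 (by rw [hk, Nat.cast_mul, e, zero_mul])
  obtain ⟨S, lam, hS0, hSU, hSZ, hSx, hlam, hlam1⟩ := exists_scalar_piece ρ U Z x
    (fun z hz u hu => hZc z hz u hu) hZx (fun z hz z' hz' => hZc z hz z' (hZU hz')) hz0 hρz hord
  haveI : Nontrivial S := (Submodule.nontrivial_iff_ne_bot).2 hS0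
  set U' := U.subgroupOf (stab ρ S) with hU'
  set Z' := Z.subgroupOf (stab ρ S) with hZ'
  have hlam_one : lam 1 = 1 := by
    obtain ⟨v, hv, hv0⟩ := Submodule.exists_mem_ne_zero_of_ne_bot hS0
    have := hlam 1 Z.one_mem v hv
    rw [map_one, Module.End.one_apply] at this
    exact smul_left_injective K hv0 (this.symm.trans (one_smul K v).symm)
  have hlam_mul : ∀ z ∈ Z, ∀ z' ∈ Z, lam (z * z') = lam z * lam z' := by
    intro z hz z' hz'
    obtain ⟨v, hv, hv0⟩ := Submodule.exists_mem_ne_zero_of_ne_bot hS0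
    refine smul_left_injective K hv0 ?_
    show lam (z * z') • v = (lam z * lam z') • v
    rw [← hlam _ (mul_mem hz hz') v hv, rho_mul, hlam z' hz' v hv, map_smul, hlam z hz v hv, smul_smul,
      mul_comm]
  have hcen : Central (res ρ S) U' Z' (⟨x, hSx⟩ : stab ρ S) r (fun g => lam (g : Y)) := by
    refine ⟨hr, Subtype.ext hxr, fun u hu => hxU _ hu, fun u hu => hZU hu, fun z hz => Subtype.ext (hZx _ hz),
      fun z hz u hu => Subtype.ext (hZc _ hz _ hu), fun u hu v hv => ?_, ?_, ?_, fun u hu h => hfpf _ hu h, ?_⟩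
    · exact hDZ (Subgroup.commutator_mem_commutator hu hv)
    · intro z hz
      exact LinearMap.ext fun v => Subtype.ext (hlam _ hz v v.2)
    · intro u hu h
      let P : Subgroup Y :=
        { carrier := {w | w ∈ U ∧ ∀ v ∈ U, lam ⁅w, v⁆ = 1}
          one_mem' := ⟨U.one_mem, fun v _ => by rw [commutatorElement_one_left, hlam_one]⟩
          mul_mem' := fun {s t} hs ht => ⟨mul_mem hs.1 ht.1, fun v hv => by
            have e : ⁅s * t, v⁆ = ⁅s, v⁆ * ⁅t, v⁆ := by
              have hc := hDcen ⁅t, v⁆ (Subgroup.commutator_mem_commutator ht.1 hv) s hs.1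
              have hc2 := hDcen ⁅t, v⁆ (Subgroup.commutator_mem_commutator ht.1 hv) _
                (U.mul_mem (U.mul_mem hv (U.inv_mem hs.1)) (U.inv_mem hv))
              calc ⁅s * t, v⁆ = s * ⁅t, v⁆ * (v * s⁻¹ * v⁻¹) := by
                    simp only [commutatorElement_def]; group
                _ = s * (v * s⁻¹ * v⁻¹) * ⁅t, v⁆ := by rw [mul_assoc, hc2, ← mul_assoc]
                _ = _ := by simp only [commutatorElement_def]; group
            rw [e, hlam_mul _ (hDZ (Subgroup.commutator_mem_commutator hs.1 hv)) _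
              (hDZ (Subgroup.commutator_mem_commutator ht.1 hv)), hs.2 v hv, ht.2 v hv, one_mul]⟩
          inv_mem' := fun {s} hs => ⟨inv_mem hs.1, fun v hv => by
            have hc := hDcen ⁅s, v⁆ (Subgroup.commutator_mem_commutator hs.1 hv) s hs.1
            have e : ⁅s⁻¹, v⁆ = ⁅s, v⁆⁻¹ := by
              refine eq_inv_of_mul_eq_one_left ?_
              calc ⁅s⁻¹, v⁆ * ⁅s, v⁆ = s⁻¹ * (v * s * v⁻¹) * ⁅s, v⁆ := by
                    simp only [commutatorElement_def]; group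
                _ = s⁻¹ * (⁅s, v⁆ * (v * s * v⁻¹)) := by
                    rw [mul_assoc, hDcen _ (Subgroup.commutator_mem_commutator hs.1 hv) _
                      (U.mul_mem (U.mul_mem hv hs.1) (U.inv_mem hv))]
                _ = 1 := by simp only [commutatorElement_def]; group
            have h0 := hlam_mul ⁅s, v⁆ (hDZ (Subgroup.commutator_mem_commutator hs.1 hv)) ⁅s, v⁆⁻¹
              (inv_mem (hDZ (Subgroup.commutator_mem_commutator hs.1 hv)))
            rw [mul_inv_cancel, hlam_one, hs.2 v hv, one_mul] at h0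
            rw [e, ← h0]⟩ }
      have hPU : P ≤ U := fun w hw => hw.1
      have hDP : D ≤ P := fun w hw => ⟨hDlt.le hw, fun v hv => by
        rw [commutatorElement_eq_one_iff_mul_comm.2 (hDcen w hw v hv), hlam_one]⟩
      have hxP : ∀ w ∈ P, x * w * x⁻¹ ∈ P := by
        refine fun w hw => ⟨hxU w hw.1, fun v hv => ?_⟩
        have hAinv : x⁻¹ * v * x ∈ U := by
          simpa using conj_mem_of_le_normalizer (hAU (inv_mem (Subgroup.mem_zpowers x))) v hv
        have hz' := hZx _ (hDZ (Subgroup.commutator_mem_commutator hw.1 hAinv))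
        rw [show ⁅x * w * x⁻¹, v⁆ = x * ⁅w, x⁻¹ * v * x⁆ * x⁻¹ by
          simp only [commutatorElement_def]; group, hz', mul_inv_cancel_right]
        exact hw.2 _ hAinv
      by_cases hP : P = U
      · exfalso
        exact hlam1 ((hP.ge ha).2 b hb)
      · refine hcenU P hDP (lt_of_le_of_ne hPU hP) hxP ⟨hu, fun v hv => ?_⟩
        exact h ⟨v, hSU hv⟩ hv
    · rw [hU', Nat.card_congr (Subgroup.subgroupOfEquivOfLe hSU).toEquiv]
      exact hU0
  have hUp' : IsPGroup q U' := hU.of_equiv (Subgroup.subgroupOfEquivOfLe hSU).symm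
  have hne' : ¬ U' ≤ Z' := fun e =>
    absurd (fun u hu => e (show (⟨u, hSU hu⟩ : stab ρ S) ∈ U' from hu)) hZlt.not_ge
  have hfix' : fix (res ρ S) (⟨x, hSx⟩ : stab ρ S) = ⊥ := by
    rw [Submodule.eq_bot_iff]
    intro v hv
    have : (v : W) ∈ fix ρ x := congrArg Subtype.val hv
    rw [hfix, Submodule.mem_bot] at this
    exact Subtype.ext this
  obtain ⟨h2, n, hn, -⟩ := hcen.of_fix_eq_bot hr0 hq hUp' hne' hfix'
  exact hex ⟨⟨h2, n, hn⟩, a, ha, b, hb, hne⟩

/-- BG 3.4, for a representation that need not be faithful. -/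
theorem fpf_central (hr : r.Prime) (hq : q.Prime) (hqr : q ≠ r)
    (hr0 : (r : K) ≠ 0) (hq0 : (q : K) ≠ 0) (hxr : x ^ r = 1) (hfix : fix ρ x = ⊥) (U : Subgroup Y)
    (hU : IsPGroup q U) (hxU : ∀ u ∈ U, x * u * x⁻¹ ∈ U) :
    (∀ u ∈ U, ρ x * ρ u = ρ u * ρ x) ∨
      ((q = 2 ∧ ∃ n, r = 2 ^ n + 1) ∧ ∃ a ∈ U, ∃ b ∈ U, a * b ≠ b * a) := by
  let f := ρ.toHomUnits
  let σ : f.range →* Module.End K W := (Units.coeHom (Module.End K W)).comp f.range.subtype
  have hσ : Function.Injective σ := fun a b h => Subtype.ext (Units.ext h)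
  let g := f.rangeRestrict
  haveI : Finite f.range := Finite.of_surjective g f.rangeRestrict_surjective
  have hσg : ∀ y, σ (g y) = ρ y := fun y => rfl
  rcases fpf_central_inj (ρ := σ) (x := g x) hσ hr hq hqr hr0 hq0 (by rw [← map_pow, hxr, map_one])
      hfix (U.map g) (hU.map g) (by
        rintro _ ⟨u, hu, rfl⟩
        exact ⟨_, hxU u hu, by rw [map_mul, map_mul, map_inv]⟩) with h | ⟨h1, _, ⟨a, ha, rfl⟩, _, ⟨b, hb, rfl⟩, hab⟩
  · refine Or.inl fun u hu => ?_
    rw [← hσg, ← hσg, ← map_mul σ, ← map_mul σ, h _ ⟨u, hu, rfl⟩]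
  · exact Or.inr ⟨h1, a, ha, b, hb, fun e => hab (by rw [← map_mul g, e, map_mul g])⟩

end CfsgLib.BG.FixedLine
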