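import Cfsg.Agent.Lib.BG.FixedLine.Fpf
import Cfsg.Agent.Lib.BG.FixedLine.Dual

/-!
Group form of BG 3.4.
-/

set_option autoImplicit false
set_option linter.style.haveILetI false
set_option linter.unusedSectionVars false

open scoped commutatorElement

namespace CfsgLib.BG.FixedLine

variable {X : Type*} [Group X] [Finite X]

/-- An element of prime order fixed-point-free on `V` centralizes `Q` modulo `C(V)`. -/
theorem fpf_groups {p q r : ℕ} (hp : p.Prime) (hq : q.Prime) (hr : r.Prime) (hpq : p ≠ q) (hpr : p ≠ r)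
    (hqr : q ≠ r) {V Q : Subgroup X} {x : X} (hV : Cfsg.IsElementaryAbelian p V) (hQ : IsPGroup q Q)
    (hxr : x ^ r = 1) (hxQ : x ∈ Subgroup.normalizer (Q : Set X))
    (hxV : x ∈ Subgroup.normalizer (V : Set X)) (hQV : Q ≤ Subgroup.normalizer (V : Set X))
    (hC : V ⊓ Subgroup.centralizer ({x} : Set X) = ⊥) :
    (∀ u ∈ Q, ⁅x, u⁆ ∈ Subgroup.centralizer (V : Set X)) ∨
      ((q = 2 ∧ ∃ n, r = 2 ^ n + 1) ∧ ∃ a ∈ Q, ∃ b ∈ Q, a * b ≠ b * a) := by
  haveI := Fact.mk hp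
  set H := Q ⊔ Subgroup.zpowers x with hH
  have hHV : H ≤ Subgroup.normalizer (V : Set X) := sup_le hQV (Subgroup.zpowers_le.2 hxV)
  have hxH : x ∈ H := Subgroup.mem_sup_right (Subgroup.mem_zpowers x)
  haveI := finiteDimensional_dual p (V := V)
  have hcop : (orderOf x).Coprime p :=
    Nat.Coprime.coprime_dvd_left (orderOf_dvd_of_pow_eq_one hxr) ((Nat.coprime_primes hr hp).2 hpr.symm)
  have hne : ∀ {n : ℕ}, n.Prime → p ≠ n → (n : AlgebraicClosure (ZMod p)) ≠ 0 := fun hn hpn =>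
    natCast_ne_zero_dual p fun h => hpn ((Nat.prime_dvd_prime_iff_eq hp hn).1 h)
  rcases fpf_central (ρ := dualRep p hHV) (x := ⟨x, hxH⟩) hr hq hqr (hne hr hpr) (hne hq hpq)
      (Subtype.ext hxr) (fix_dualRep_eq_bot p hV hHV _ hcop hC) (Q.subgroupOf H)
      (hQ.of_equiv (Subgroup.subgroupOfEquivOfLe le_sup_left).symm)
      (fun u hu => conj_mem_of_le_normalizer hxQ _ hu) with h | ⟨h1, a, ha, b, hb, hab⟩
  · refine Or.inl fun u hu => ?_
    have huH : u ∈ H := Subgroup.mem_sup_left hu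
    have := h ⟨u, huH⟩ hu
    have h1 : dualRep p hHV ⁅(⟨x, hxH⟩ : H), ⟨u, huH⟩⁆ = 1 := by
      simp only [commutatorElement_def, map_mul]
      rw [this, mul_assoc (dualRep p hHV ⟨u, huH⟩), ← map_mul _ (⟨x, hxH⟩ : H), mul_inv_cancel, map_one,
        mul_one, ← map_mul, mul_inv_cancel, map_one]
    exact (dualRep_eq_one_iff p hV hHV _).1 h1
  · exact Or.inr ⟨h1, a, ha, b, hb, fun e => hab (Subtype.ext e)⟩

/-- BG 3.4: Hall subgroup version. -/
theorem commutator_le_centralizer_of_fpf {ℓ r : ℕ} (hℓ : ℓ.Prime) (hr : r.Prime) {V K : Subgroup X} {x : X}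
    (hV : Cfsg.IsElementaryAbelian ℓ V) (hK : Odd (Nat.card K)) (hℓK : ¬ ℓ ∣ Nat.card K) (hrK : ¬ r ∣ Nat.card K)
    (hℓr : ℓ ≠ r) (hsol : Group.IsSolvable K) (hxr : x ^ r = 1) (hxK : x ∈ Subgroup.normalizer (K : Set X))
    (hxV : x ∈ Subgroup.normalizer (V : Set X)) (hKV : K ≤ Subgroup.normalizer (V : Set X))
    (hC : V ⊓ Subgroup.centralizer ({x} : Set X) = ⊥) :
    ⁅K, Subgroup.zpowers x⁆ ≤ Subgroup.centralizer (V : Set X) := by
  have hcop : (Nat.card (Subgroup.zpowers x)).Coprime (Nat.card K) := by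
    rw [Nat.card_zpowers]
    exact Nat.Coprime.coprime_dvd_left (orderOf_dvd_of_pow_eq_one hxr) (hr.coprime_iff_not_dvd.2 hrK)
  have hxK' : Subgroup.zpowers x ≤ Subgroup.normalizer (K : Set X) := Subgroup.zpowers_le.2 hxK
  set N := Subgroup.normalizer (V : Set X) with hN
  set C := Subgroup.centralizer (V : Set X) with hC'
  haveI : (C.subgroupOf N).Normal :=
    Subgroup.normal_subgroupOf_of_le_normalizer fun n hn =>
      (CfsgLib.Coprime.le_normalizer_centralizer (A := N) (H := V) le_rfl) hn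
  set π := QuotientGroup.mk' (C.subgroupOf N)
  have key : ∀ g : N, π g * π ⟨x, hxV⟩ = π ⟨x, hxV⟩ * π g ↔ ⁅x, (g : X)⁆ ∈ C := by
    intro g
    rw [eq_comm, ← commutatorElement_eq_one_iff_mul_comm, ← map_commutatorElement, QuotientGroup.mk'_apply,
      QuotientGroup.eq_one_iff, Subgroup.mem_subgroupOf]
    rfl
  let T : Subgroup N := (Subgroup.centralizer {π ⟨x, hxV⟩}).comap π
  have hT : ∀ g : N, g ∈ T ↔ ⁅x, (g : X)⁆ ∈ C := fun g => by
    rw [← key]
    show π g ∈ Subgroup.centralizer {π ⟨x, hxV⟩} ↔ _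
    rw [Subgroup.mem_centralizer_singleton_iff]
  have hKT : K.subgroupOf N ≤ T := by
    have hdvd : Nat.card (K.subgroupOf N) ∣ Nat.card ↥(T ⊓ K.subgroupOf N) := by
      refine (Nat.dvd_iff_prime_pow_dvd_dvd _ _).2 fun q k hq hk => ?_
      rcases Nat.eq_zero_or_pos k with rfl | hk0
      · simp
      haveI := Fact.mk hq
      rw [Nat.card_congr (Subgroup.subgroupOfEquivOfLe hKV).toEquiv] at hk
      have hqK : q ∣ Nat.card K := (dvd_pow_self q hk0.ne').trans hk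
      obtain ⟨S, hS⟩ := CfsgLib.Coprime.exists_invariant_sylow (p := q) hxK' hcop (Or.inr hsol)
      set S' := (S : Subgroup K).map K.subtype with hS'
      have hS'K : S' ≤ K := Subgroup.map_subtype_le _
      have hq2 : q ≠ 2 := fun e => (Nat.not_even_iff_odd.2 hK) (even_iff_two_dvd.2 (e ▸ hqK))
      have hout : ∀ u ∈ S', ⁅x, u⁆ ∈ C :=
        (fpf_groups hℓ hq hr (fun e => hℓK (e ▸ hqK)) hℓr (fun e => hrK (e ▸ hqK)) hV (S.2.map _) hxr
          (hS (Subgroup.mem_zpowers x)) hxV (hS'K.trans hKV) hC).resolve_right fun h => hq2 h.1.1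
      have hle : S'.subgroupOf N ≤ T ⊓ K.subgroupOf N := fun u hu => ⟨(hT u).2 (hout _ hu), hS'K hu⟩
      refine dvd_trans ?_ (Subgroup.card_dvd_of_le hle)
      rw [Nat.card_congr (Subgroup.subgroupOfEquivOfLe (hS'K.trans hKV)).toEquiv, hS',
        Subgroup.card_subtype, S.card_eq_multiplicity]
      exact Nat.pow_dvd_pow q ((hq.pow_dvd_iff_le_factorization Nat.card_pos.ne').1 hk)
    have := Subgroup.eq_of_le_of_card_ge inf_le_right (Nat.le_of_dvd Nat.card_pos hdvd)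
    exact this ▸ inf_le_left
  refine Subgroup.commutator_le.2 fun k hk g hg => ?_
  obtain ⟨i, rfl⟩ := Subgroup.mem_zpowers_iff.1 hg
  have h1 : π ⟨k, hKV hk⟩ * π ⟨x, hxV⟩ = π ⟨x, hxV⟩ * π ⟨k, hKV hk⟩ :=
    (key _).2 ((hT _).1 (hKT (show (⟨k, hKV hk⟩ : N) ∈ K.subgroupOf N from hk)))
  have h2 := (show Commute (π ⟨k, hKV hk⟩) (π ⟨x, hxV⟩) from h1).zpow_right i
  rw [← map_zpow] at h2
  have h3 : π ⁅(⟨k, hKV hk⟩ : N), (⟨x, hxV⟩ : N) ^ i⁆ = 1 := by
    rw [map_commutatorElement]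
    exact commutatorElement_eq_one_iff_commute.2 h2
  rw [QuotientGroup.mk'_apply, QuotientGroup.eq_one_iff, Subgroup.mem_subgroupOf] at h3
  simpa [commutatorElement_def] using h3

end CfsgLib.BG.FixedLine
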