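import Cfsg.Agent.Lib.BG.FixedLine.Setup
import Cfsg.Agent.Lib.Quadratic.Groups

/-!
A quadratic `p`-element in odd order centralizes a faithfully acting `q`-group it normalizes.
-/

set_option autoImplicit false
set_option linter.style.haveILetI false
set_option linter.unusedSectionVars false

open scoped commutatorElement

namespace CfsgLib.BG.FixedLine

variable {K W Y : Type*} [Field K] [AddCommGroup W] [Module K W] [FiniteDimensional K W] [Group Y]
  [Finite Y] {ρ : Y →* Module.End K W}

theorem quadratic_centralizes {p q : ℕ} [Fact p.Prime] [CharP K p] (hp2 : p ≠ 2) (hpq : p ≠ q)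
    [Fact q.Prime] (hodd : Odd (Nat.card Y)) {U : Subgroup Y} (hU : IsPGroup q U) {a : Y}
    (haU : ∀ u ∈ U, a * u * a⁻¹ ∈ U) (hquad : (ρ a - 1) * (ρ a - 1) = 0) :
    ∀ u ∈ U, ρ a * ρ u = ρ u * ρ a := by
  classical
  set H := U ⊔ Subgroup.zpowers a with hH
  let f := (ρ.comp H.subtype).toHomUnits
  let ρ' : f.range →* Module.End K W := (Units.coeHom (Module.End K W)).comp f.range.subtype
  have hρ' : Function.Injective ρ' := fun s t h => Subtype.ext (Units.ext h)
  let g := f.rangeRestrict
  have hg : Function.Surjective g := f.rangeRestrict_surjective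
  haveI : Finite f.range := Finite.of_surjective g hg
  have hρg : ∀ h : H, ρ' (g h) = ρ (h : Y) := fun h => rfl
  let b := Module.finBasis K W
  let gen : Set W := Set.range fun t : f.range × Fin (Module.finrank K W) => ρ' t.1 (b t.2)
  let M : AddSubgroup W := AddSubgroup.closure gen
  have hgen : gen.Finite := Set.finite_range _
  have hMinv : ∀ (t : f.range), ∀ w ∈ M, ρ' t w ∈ M := by
    intro t w hw
    have : M ≤ M.comap (ρ' t).toAddMonoidHom := by
      refine (AddSubgroup.closure_le _).2 ?_
      rintro _ ⟨⟨s, i⟩, rfl⟩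
      refine AddSubgroup.subset_closure ⟨(t * s, i), ?_⟩
      show ρ' (t * s) (b i) = ρ' t (ρ' s (b i))
      rw [map_mul]; rfl
    exact this hw
  have hexp : ∀ w : W, p • w = 0 := fun w => by
    rw [← Nat.cast_smul_eq_nsmul K, CharP.cast_eq_zero, zero_smul]
  haveI hMfin : Finite M := by
    haveI : AddGroup.FG M := by
      haveI := hgen.to_subtype
      exact (AddGroup.fg_iff_addSubgroup_fg M).2 ⟨hgen.toFinset, by simp [M]⟩
    haveI : Module.Finite ℤ M := Module.Finite.iff_addGroup_fg.2 inferInstance
    exact Module.finite_of_fg_torsion M fun w =>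
      ⟨⟨(p : ℤ), mem_nonZeroDivisors_of_ne_zero (by exact_mod_cast (Fact.out : p.Prime).ne_zero)⟩,
        Subtype.ext (by simpa using hexp (w : W))⟩
  let φ : f.range →* AddMonoid.End M :=
    { toFun := fun t => { toFun := fun w => ⟨ρ' t w, hMinv t w w.2⟩
                          map_zero' := Subtype.ext (map_zero _)
                          map_add' := fun v w => Subtype.ext (map_add _ _ _) }
      map_one' := AddMonoidHom.ext fun w => Subtype.ext (by
        show ρ' 1 (w : W) = (w : W)
        rw [map_one]; rfl)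
      map_mul' := fun s t => AddMonoidHom.ext fun w => Subtype.ext (by
        show ρ' (s * t) w = ρ' s (ρ' t w)
        rw [map_mul]; rfl) }
  have hφ : Function.Injective φ := by
    intro s t e
    refine hρ' (b.ext fun i => ?_)
    have hm : b i ∈ M := AddSubgroup.subset_closure ⟨((1 : f.range), i), by simp⟩
    exact congrArg Subtype.val (DFunLike.congr_fun e ⟨b i, hm⟩)
  have haH : a ∈ H := Subgroup.mem_sup_right (Subgroup.mem_zpowers a)
  have hq' : (φ (g ⟨a, haH⟩) - 1) * (φ (g ⟨a, haH⟩) - 1) = 0 := AddMonoidHom.ext fun w => Subtype.ext (by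
    show ((ρ' (g ⟨a, haH⟩)) (ρ' (g ⟨a, haH⟩) (w : W) - (w : W)) - (ρ' (g ⟨a, haH⟩) (w : W) - (w : W))) = 0
    rw [hρg]
    simpa [Module.End.mul_apply, LinearMap.sub_apply] using LinearMap.congr_fun hquad (w : W))
  have hmem : g ⟨a, haH⟩ ∈ Cfsg.pCore p f.range := by
    by_contra hna
    obtain ⟨T⟩ : Nonempty (Sylow 2 f.range) := inferInstance
    refine CfsgLib.Quadratic.sylow_two_not_commutative_of_not_mem_pCore hp2
      (fun w => Subtype.ext (hexp _)) φ hφ hq' hna T ?_
    have hodd' : Odd (Nat.card f.range) :=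
      hodd.of_dvd_nat ((Subgroup.card_dvd_of_surjective g hg).trans H.card_subgroup_dvd_card)
    have hT : (T : Subgroup f.range) = ⊥ := by
      obtain ⟨k, hk⟩ := T.2.exists_card_eq
      refine Subgroup.card_eq_one.1 ?_
      rcases Nat.eq_zero_or_pos k with rfl | hk0
      · simpa using hk
      · exact absurd (even_iff_two_dvd.2 ((dvd_pow_self 2 hk0.ne').trans
          (hk ▸ (T : Subgroup f.range).card_subgroup_dvd_card))) (Nat.not_even_iff_odd.2 hodd')
    exact ⟨⟨fun s t => Subtype.ext (by
      have h1 : (s : f.range) = 1 := Subgroup.mem_bot.1 (hT ▸ s.2)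
      rw [Subgroup.coe_mul, Subgroup.coe_mul, h1, one_mul, mul_one])⟩⟩
  intro u hu
  haveI := CfsgLib.Fitting.pCore_normal (G := f.range) p
  have huH : u ∈ H := Subgroup.mem_sup_left hu
  set N := (U.subgroupOf H).map g with hN
  haveI : N.Normal := by
    haveI : (U.subgroupOf H).Normal := Subgroup.normal_subgroupOf_of_le_normalizer
      (sup_le Subgroup.le_normalizer (zpowers_le_normalizer haU))
    exact Subgroup.Normal.map inferInstance g hg
  have hNp : IsPGroup q N := (hU.of_equiv (Subgroup.subgroupOfEquivOfLe le_sup_left).symm).map g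
  have hdis : Disjoint (Cfsg.pCore p f.range) N :=
    IsPGroup.disjoint_of_ne p q hpq _ _ (CfsgLib.Fitting.pCore_isPGroup p) hNp
  have hcomm := Subgroup.commute_of_normal_of_disjoint _ N inferInstance inferInstance hdis
    (g ⟨a, haH⟩) (g ⟨u, huH⟩) hmem ⟨⟨u, huH⟩, hu, rfl⟩
  have h2 := congrArg ρ' hcomm.eq
  rwa [map_mul, map_mul] at h2

end CfsgLib.BG.FixedLine
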