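import Cfsg.Agent.Lib.BG.FixedLine.Tools
import Cfsg.Agent.Lib.BG.FixedLine.Quad
import Cfsg.Agent.Lib.BG.FixedLine.Bounds

/-!
A `p`-element commuting with `x`, where `x` fixes at most a line, centralizes `[Q, x]`.
-/

set_option autoImplicit false
set_option linter.style.haveILetI false
set_option linter.unusedSectionVars false
set_option maxHeartbeats 400000

open scoped commutatorElement

namespace CfsgLib.BG.FixedLine

open CfsgLib.Coprime

variable {K : Type*} [Field K] [IsAlgClosed K]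

section Step

variable {W Y : Type*} [AddCommGroup W] [Module K W] [FiniteDimensional K W] [Group Y] [Finite Y]

/-- The standing hypotheses. -/
structure LineSetting (ρ : Y →* Module.End K W) (p q r k : ℕ) (x a : Y) (U : Subgroup Y) : Prop where
  hp2 : p ≠ 2
  hq : q.Prime
  hr : r.Prime
  hpq : p ≠ q
  hpr : p ≠ r
  hqr : q ≠ r
  hodd : Odd (Nat.card Y)
  hr3 : 3 ≤ r
  hq2 : q ≠ 2
  hxr : x ^ r = 1
  hax : a * x = x * a
  hap : a ^ p ^ k = 1
  hfix : Module.finrank K (fix ρ x) ≤ 1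
  hU : IsPGroup q U
  hxU : ∀ u ∈ U, x * u * x⁻¹ ∈ U
  haU : ∀ u ∈ U, a * u * a⁻¹ ∈ U
  hinj : ∀ u ∈ U, ρ u = 1 → u = 1
  hcomm : ⁅U, Subgroup.zpowers x⁆ = U
  hnofix : ∀ v, (∀ u ∈ U, ρ u v = v) → v = 0
  hcyc : IsCyclic ↥(U ⊓ Subgroup.centralizer ({x} : Set Y))
  hIH : ∀ V : Subgroup Y, V < U → (∀ u ∈ V, x * u * x⁻¹ ∈ V) → (∀ u ∈ V, a * u * a⁻¹ ∈ V) →
    ∀ u ∈ ⁅V, Subgroup.zpowers x⁆, a * u = u * a

namespace LineSetting

variable {ρ : Y →* Module.End K W} {p q r k : ℕ} [Fact p.Prime] [CharP K p] {x a : Y} {U : Subgroup Y}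
  (h : LineSetting ρ p q r k x a U)

include h

theorem natCast_ne_zero {n : ℕ} (hn : n.Prime) (hpn : p ≠ n) : (n : K) ≠ 0 := fun e =>
  hpn ((Nat.prime_dvd_prime_iff_eq Fact.out hn).1 ((CharP.cast_eq_zero_iff K p _).1 e))

theorem r_ne_zero : (r : K) ≠ 0 := h.natCast_ne_zero h.hr h.hpr

theorem q_ne_zero : (q : K) ≠ 0 := h.natCast_ne_zero h.hq h.hpq

theorem card_ne_zero {V : Subgroup Y} (hV : V ≤ U) : (Nat.card V : K) ≠ 0 := by
  haveI := Fact.mk h.hq
  exact natCast_ne_zero_of_isPGroup (h.hU.to_le hV) h.q_ne_zero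

theorem scalar {g : Module.End K W} (hgU : ∀ u ∈ U, g * ρ u = ρ u * g) (hgx : g * ρ x = ρ x * g) :
    ∃ μ : K, g = μ • 1 :=
  scalar_of_commute h.hr h.hq h.hq2 h.hqr h.r_ne_zero h.q_ne_zero h.hxr h.hU h.hxU h.hcomm h.hnofix
    h.hfix hgU hgx

theorem exists_line [Nontrivial W] :
    ∃ c : W, c ≠ 0 ∧ fix ρ x = Submodule.span K {c} ∧ ρ a c = c := by
  have hfix0 : fix ρ x ≠ ⊥ := by
    intro h0
    obtain ⟨v, hv⟩ := exists_ne (0 : W)
    refine hv (h.hnofix v fun u hu => ?_)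
    exact trivial_of_fpf h.hr h.hq h.hq2 h.hqr h.r_ne_zero h.q_ne_zero h.hxr h.hU h.hxU h.hcomm (S := ⊤)
      (fun _ _ _ _ => trivial) (fun _ _ => trivial) (by rw [h0, inf_bot_eq]) u hu v trivial
  obtain ⟨c, hc, hc0⟩ := Submodule.exists_mem_ne_zero_of_ne_bot hfix0
  have hspan : fix ρ x = Submodule.span K {c} :=
    (Submodule.eq_of_le_of_finrank_le ((Submodule.span_singleton_le_iff_mem c _).2 hc)
      (by rw [finrank_span_singleton hc0]; exact h.hfix)).symm
  refine ⟨c, hc0, hspan, ?_⟩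
  have hmem : ρ a c ∈ fix ρ x := by
    show ρ x (ρ a c) = ρ a c
    rw [rho_commute ρ h.hax.symm, (mem_fix ρ).1 hc]
  rw [hspan, Submodule.mem_span_singleton] at hmem
  obtain ⟨μ, hμ⟩ := hmem
  have hpow : ∀ n : ℕ, ρ (a ^ n) c = μ ^ n • c := by
    intro n
    induction n with
    | zero => simp
    | succ n ih => rw [pow_succ', rho_mul, ih, map_smul, ← hμ, smul_smul, ← pow_succ]
  have h1 := hpow (p ^ k)
  rw [h.hap, map_one, Module.End.one_apply] at h1
  have h2 : μ ^ p ^ k = 1 :=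
    smul_left_injective K hc0 (show μ ^ p ^ k • c = (1 : K) • c by rw [one_smul, ← h1])
  haveI : ExpChar K p := ExpChar.prime Fact.out
  have h3 : (μ - 1) ^ p ^ k = 0 := by rw [sub_pow_char_pow, h2, one_pow, sub_self]
  rw [← hμ, sub_eq_zero.1 (eq_zero_of_pow_eq_zero h3), one_smul]

theorem abelian_case (hab : ∀ u ∈ U, ∀ v ∈ U, u * v = v * u) : ∀ u ∈ U, a * u = u * a := by
  let x' : Subgroup.normalizer (U : Set Y) := ⟨x, mem_normalizer_of_conj h.hxU⟩
  let a' : Subgroup.normalizer (U : Set Y) := ⟨a, mem_normalizer_of_conj h.haU⟩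
  have hXU := zpowers_le_normalizer h.hxU
  have hmoved : ∀ μ : Chi K U, comp ρ U μ ≠ ⊥ → x' • μ ≠ μ := by
    intro μ hμ hfixμ
    obtain ⟨v, hv, hv0⟩ := Submodule.exists_mem_ne_zero_of_ne_bot hμ
    refine hv0 (h.hnofix v fun u hu => ?_)
    let F : Subgroup Y := (μ.ker).map U.subtype
    have hle : ⁅U, Subgroup.zpowers x⁆ ≤ F := by
      refine Subgroup.commutator_le.2 fun u hu g hg => ?_
      have hmem : ⁅u, g⁆ ∈ U := h.hcomm ▸ Subgroup.commutator_mem_commutator hu hg
      refine ⟨⟨_, hmem⟩, ?_, rfl⟩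
      have hgN : g ∈ Subgroup.normalizer (U : Set Y) := hXU hg
      obtain ⟨i, rfl⟩ := Subgroup.mem_zpowers_iff.1 hg
      have hfi : x' ^ i • μ = μ :=
        (show x' ^ i ∈ MulAction.stabilizer _ μ from
          zpow_mem (MulAction.mem_stabilizer_iff.2 hfixμ) i)
      have e := DFunLike.congr_fun hfi
        ⟨x ^ i * u⁻¹ * (x ^ i)⁻¹, conj_mem_of_le_normalizer hgN _ (U.inv_mem hu)⟩
      rw [smul_chi_apply] at e
      have e2 : CfsgLib.Coprime.conjAct le_rfl (x' ^ i)⁻¹
          (⟨x ^ i * u⁻¹ * (x ^ i)⁻¹, conj_mem_of_le_normalizer hgN _ (U.inv_mem hu)⟩ : U) = (⟨u, hu⟩ : U)⁻¹ :=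
        Subtype.ext (by
          simp only [CfsgLib.Coprime.coe_conjAct, Subgroup.coe_inv, SubgroupClass.coe_zpow, x']
          group)
      rw [e2, map_inv] at e
      have e3 : (⟨⁅u, x ^ i⁆, hmem⟩ : U) =
          ⟨u, hu⟩ * ⟨x ^ i * u⁻¹ * (x ^ i)⁻¹, conj_mem_of_le_normalizer hgN _ (U.inv_mem hu)⟩ :=
        Subtype.ext (by simp [commutatorElement_def, mul_assoc])
      show μ ⟨⁅u, x ^ i⁆, hmem⟩ = 1
      rw [e3, map_mul, ← e, mul_inv_cancel]
    obtain ⟨u', hu', rfl⟩ := (h.hcomm.ge.trans hle) hu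
    show ρ (u' : Y) v = v
    rw [hv u', show μ u' = 1 from hu', Units.val_one, one_smul]
  have hfixed : ∀ μ : Chi K U, comp ρ U μ ≠ ⊥ → a' • μ = μ := fun μ hμ =>
    smul_eq_self_of_orbit (h.card_ne_zero le_rfl) h.hr Fact.out h.hpr (x := x') (g := a') (k := k)
      (Subtype.ext h.hxr) h.hfix hmoved (Subtype.ext h.hax) (Subtype.ext h.hap) hμ
  intro u hu
  exact eq_of_commute_of_injOn h.hinj h.haU hu
    (commute_of_fixed_chars hab (h.card_ne_zero le_rfl) hfixed u hu)

theorem x_normalizes_center : ∀ z ∈ U ⊓ Subgroup.centralizer (U : Set Y),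
    x * z * x⁻¹ ∈ U ⊓ Subgroup.centralizer (U : Set Y) :=
  conj_mem_of_le_normalizer (le_normalizer_inf_of_le (zpowers_le_normalizer h.hxU)
    (le_normalizer_centralizer (zpowers_le_normalizer h.hxU)) (Subgroup.mem_zpowers x))

theorem a_normalizes_center : ∀ z ∈ U ⊓ Subgroup.centralizer (U : Set Y),
    a * z * a⁻¹ ∈ U ⊓ Subgroup.centralizer (U : Set Y) :=
  conj_mem_of_le_normalizer (le_normalizer_inf_of_le (zpowers_le_normalizer h.haU)
    (le_normalizer_centralizer (zpowers_le_normalizer h.haU)) (Subgroup.mem_zpowers a))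

theorem x_centralizes_center {u₀ v₀ : Y} (hu₀ : u₀ ∈ U) (hv₀ : v₀ ∈ U) (hne₀ : u₀ * v₀ ≠ v₀ * u₀) :
    ∀ z ∈ U ⊓ Subgroup.centralizer (U : Set Y), x * z = z * x := by
  set Z := U ⊓ Subgroup.centralizer (U : Set Y) with hZdef
  have hZU : Z ≤ U := inf_le_left
  have hZc : ∀ z ∈ Z, ∀ u ∈ U, z * u = u * z := fun z hz u hu => (hz.2 u hu).symm
  have hxZ : ∀ z ∈ Z, x * z * x⁻¹ ∈ Z := h.x_normalizes_center
  have hZZ : ∀ z ∈ Z, ∀ z' ∈ Z, z * z' = z' * z := fun z hz z' hz' => hZc z hz z' (hZU hz')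
  have hZ0 : (Nat.card Z : K) ≠ 0 := h.card_ne_zero hZU
  let x' : Subgroup.normalizer (Z : Set Y) := ⟨x, mem_normalizer_of_conj hxZ⟩
  by_cases hall : ∀ μ : Chi K Z, comp ρ Z μ ≠ ⊥ → x' • μ = μ
  · intro z hz
    exact eq_of_commute_of_injOn (fun u hu => h.hinj u (hZU hu)) hxZ hz
      (commute_of_fixed_chars hZZ hZ0 hall z hz)
  push Not at hall
  obtain ⟨μ, hμc, hμ⟩ := hall
  exfalso
  have hx'r : x' ^ r = 1 := Subtype.ext h.hxr
  refine hne₀ (eq_of_commute_of_injOn h.hinj (fun v hv => ?_) hv₀ ?_)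
  · exact U.mul_mem (U.mul_mem hu₀ hv) (U.inv_mem hu₀)
  refine eq_of_eq_on_comp ρ Z hZZ hZ0 fun ν w hw => ?_
  have hpres : ∀ u ∈ U, u ∈ stab ρ (comp ρ Z ν) := fun u hu w hw z => by
    rw [rho_commute ρ (hZc z z.2 u hu), hw z, map_smul]
  rw [Module.End.mul_apply, Module.End.mul_apply]
  by_cases hν : x' • ν = ν
  · have hbot : comp ρ Z ν ⊓ fix ρ x = ⊥ := fixed_comp_inf ρ Z hZ0 (x := x') h.hfix h.hr hx'r hμ hμc hν
    have hxst : x ∈ stab ρ (comp ρ Z ν) := fun w hw => by
      have := rho_mem_comp ρ Z x' hw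
      rwa [hν] at this
    have hS := trivial_of_fpf h.hr h.hq h.hq2 h.hqr h.r_ne_zero h.q_ne_zero h.hxr h.hU h.hxU h.hcomm
      (S := comp ρ Z ν) hpres hxst hbot
    have hw0 : w = 0 := h.hnofix w fun u hu => hS u hu w hw
    simp [hw0]
  · have h1 := finrank_comp_le_one ρ Z hZ0 (x := x') h.hfix h.hr hx'r hν
    by_cases hw0 : w = 0
    · simp [hw0]
    have hsp : comp ρ Z ν = Submodule.span K {w} :=
      (Submodule.eq_of_le_of_finrank_le ((Submodule.span_singleton_le_iff_mem w _).2 hw)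
        (by rw [finrank_span_singleton hw0]; exact h1)).symm
    have hu' := hpres u₀ hu₀ w hw
    have hv' := hpres v₀ hv₀ w hw
    rw [hsp, Submodule.mem_span_singleton] at hu' hv'
    obtain ⟨s, hs⟩ := hu'
    obtain ⟨t, ht⟩ := hv'
    rw [← ht, map_smul, ← hs, map_smul, ← ht, smul_comm]

theorem center_scalar {u₀ v₀ : Y} (hu₀ : u₀ ∈ U) (hv₀ : v₀ ∈ U) (hne₀ : u₀ * v₀ ≠ v₀ * u₀) :
    ∀ z ∈ U ⊓ Subgroup.centralizer (U : Set Y), ∃ μ : K, ρ z = μ • 1 := fun z hz =>
  h.scalar (fun u hu => by rw [← map_mul, ← map_mul, (hz.2 u hu).symm])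
    (by rw [← map_mul, ← map_mul, h.x_centralizes_center hu₀ hv₀ hne₀ z hz])

theorem a_centralizes_center [Nontrivial W] {u₀ v₀ : Y} (hu₀ : u₀ ∈ U) (hv₀ : v₀ ∈ U)
    (hne₀ : u₀ * v₀ ≠ v₀ * u₀) : ∀ z ∈ U ⊓ Subgroup.centralizer (U : Set Y), a * z = z * a := by
  obtain ⟨c, hc0, -, hac⟩ := h.exists_line
  intro z hz
  obtain ⟨μ, hμ⟩ := h.center_scalar hu₀ hv₀ hne₀ z hz
  obtain ⟨ν, hν⟩ := h.center_scalar hu₀ hv₀ hne₀ _ (h.a_normalizes_center z hz)
  have e1 : ρ (a * z * a⁻¹) c = μ • c := by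
    have : ρ a⁻¹ c = c := by
      conv_lhs => rw [← hac]
      exact rho_inv_apply ρ a c
    rw [rho_mul, rho_mul, this, hμ, LinearMap.smul_apply, Module.End.one_apply, map_smul, hac]
  rw [hν, LinearMap.smul_apply, Module.End.one_apply] at e1
  have e2 : ρ (a * z * a⁻¹) = ρ z := by rw [hν, hμ, smul_left_injective K hc0 e1]
  refine eq_of_commute_of_injOn h.hinj h.haU hz.1 ?_
  rw [← map_mul, show a * z = a * z * a⁻¹ * a by group, map_mul, e2]

theorem fixed_mem_commutator {u : Y} (hu : u ∈ U) (he : x * u = u * x) : u ∈ ⁅U, U⁆ :=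
  fixed_le_commutator h.hr h.hq h.hqr h.hxr h.hU h.hxU h.hcomm hu he

theorem coprime_a : (Nat.card (Subgroup.zpowers a)).Coprime (Nat.card U) := by
  haveI := Fact.mk h.hq
  obtain ⟨j, hj⟩ := h.hU.exists_card_eq
  rw [hj, Nat.card_zpowers]
  exact Nat.Coprime.coprime_dvd_left (orderOf_dvd_of_pow_eq_one h.hap)
    (((Nat.coprime_primes Fact.out h.hq).2 h.hpq).pow _ _)

theorem commutator_a_eq (hna : ¬ ∀ u ∈ U, a * u = u * a) : ⁅U, Subgroup.zpowers a⁆ = U := by
  classical
  haveI := Fact.mk h.hq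
  haveI := h.hU.isNilpotent
  set B := Subgroup.zpowers a with hB
  set X := Subgroup.zpowers x with hX
  set D := ⁅U, U⁆ with hD
  have hXU := zpowers_le_normalizer h.hxU
  have hBU := zpowers_le_normalizer h.haU
  have hUD : U ≤ Subgroup.normalizer (D : Set Y) :=
    le_normalizer_commutator Subgroup.le_normalizer Subgroup.le_normalizer
  have hDX : X ≤ Subgroup.normalizer (D : Set Y) := le_normalizer_commutator hXU hXU
  have hDB : B ≤ Subgroup.normalizer (D : Set Y) := le_normalizer_commutator hBU hBU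
  have hDU : D ≤ U := commutator_le_left_of_le_normalizer Subgroup.le_normalizer
  by_contra hUB
  set W1 := ⁅U, B⁆ ⊔ D with hW1
  have hUB' : ⁅U, B⁆ ≤ U := commutator_le_left_of_le_normalizer hBU
  have hW1le : W1 ≤ U := sup_le hUB' hDU
  have hnB : B ≤ Subgroup.normalizer ((⁅U, B⁆ : Subgroup Y) : Set Y) := le_normalizer_commutator hBU Subgroup.le_normalizer
  have hBX : X ≤ Subgroup.normalizer (B : Set Y) := by
    refine Subgroup.zpowers_le.2 (Subgroup.centralizer_le_normalizer _ fun g hg => ?_)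
    obtain ⟨i, rfl⟩ := Subgroup.mem_zpowers_iff.1 hg
    exact ((show Commute a x from h.hax).zpow_left i).eq
  have hnX : X ≤ Subgroup.normalizer ((⁅U, B⁆ : Subgroup Y) : Set Y) := le_normalizer_commutator hXU hBX
  have hsub : D ≤ (frattini ↥U).map U.subtype := by
    refine le_trans (le_of_eq ?_) (Subgroup.map_mono (CfsgLib.PSolvable.commutator_le_frattini (K := U) h.hU).1)
    rw [commutator_def, Subgroup.map_commutator, ← MonoidHom.range_eq_map, Subgroup.range_subtype]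
  have hW1ne : W1 ≠ U := by
    intro e
    refine hUB (le_antisymm hUB' ?_)
    have hM : (⁅U, B⁆).subgroupOf U ⊔ frattini ↥U = ⊤ := by
      rw [eq_top_iff]
      intro u _
      have : (u : Y) ∈ W1 := e.ge u.2
      rw [hW1, sup_comm, ← SetLike.mem_coe,
        Subgroup.coe_mul_of_right_le_normalizer_left D ⁅U, B⁆ (hUB'.trans hUD), Set.mem_mul] at this
      obtain ⟨d, hd, w, hw, hdw⟩ := this
      obtain ⟨d', hd', rfl⟩ := hsub hd
      have : u = d' * ⟨w, hUB' hw⟩ := Subtype.ext (by simpa using hdw.symm)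
      rw [this]
      exact mul_mem (Subgroup.mem_sup_right hd') (Subgroup.mem_sup_left hw)
    have := frattini_nongenerating hM
    intro u hu
    exact (this ▸ Subgroup.mem_top _ : (⟨u, hu⟩ : U) ∈ (⁅U, B⁆).subgroupOf U)
  have hW1X : X ≤ Subgroup.normalizer (W1 : Set Y) := le_normalizer_sup_of_le hnX hDX
  have hIH1 := h.hIH W1 (lt_of_le_of_ne hW1le hW1ne)
    (conj_mem_of_le_normalizer (hW1X (Subgroup.mem_zpowers x)))
    (conj_mem_of_le_normalizer (le_normalizer_sup_of_le hnB hDB (Subgroup.mem_zpowers a)))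
  have hdec := commutator_sup_centralizer hW1X
    ((coprime_zpowers h.hq h.hr h.hqr h.hU h.hxr).coprime_dvd_right (Subgroup.card_dvd_of_le hW1le))
    (Or.inr (by haveI := (h.hU.to_le hW1le).isNilpotent; infer_instance))
  let F : Subgroup Y :=
    { carrier := {w | w ∈ U ∧ ∀ b ∈ B, ⁅w, b⁆ ∈ D}
      one_mem' := ⟨U.one_mem, fun b _ => by rw [commutatorElement_one_left]; exact D.one_mem⟩
      mul_mem' := fun {v w} hv hw => ⟨U.mul_mem hv.1 hw.1, fun b hb => by
        rw [show ⁅v * w, b⁆ = v * ⁅w, b⁆ * v⁻¹ * ⁅v, b⁆ by simp only [commutatorElement_def]; group]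
        exact D.mul_mem (conj_mem_of_le_normalizer (hUD hv.1) _ (hw.2 b hb)) (hv.2 b hb)⟩
      inv_mem' := fun {v} hv => ⟨U.inv_mem hv.1, fun b hb => by
        have := conj_mem_of_le_normalizer (hUD (U.inv_mem hv.1)) _ (D.inv_mem (hv.2 b hb))
        convert this using 1
        simp only [commutatorElement_def]; group⟩ }
  have hF : W1 ≤ F := by
    rw [← hdec]
    refine sup_le (fun v hv => ⟨hW1le (commutator_le_left_of_le_normalizer hW1X hv), fun b hb => ?_⟩)
      (fun v hv => ⟨hW1le hv.1, fun b hb => ?_⟩)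
    · obtain ⟨i, rfl⟩ := Subgroup.mem_zpowers_iff.1 hb
      rw [commutatorElement_eq_one_iff_mul_comm.2 ((show Commute a v from hIH1 v hv).zpow_left i).eq.symm]
      exact D.one_mem
    · have hvD : v ∈ D := h.fixed_mem_commutator (hW1le hv.1) (hv.2 x (Subgroup.mem_zpowers x))
      rw [show ⁅v, b⁆ = v * (b * v⁻¹ * b⁻¹) by rw [commutatorElement_def]; group]
      exact D.mul_mem hvD (conj_mem_of_le_normalizer (hDB hb) _ (D.inv_mem hvD))
  have hUBD : ⁅U, B⁆ ≤ D := by
    rw [← commutator_commutator_eq hBU h.coprime_a (Or.inr inferInstance)]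
    exact Subgroup.commutator_le.2 fun w hw b hb => (hF (Subgroup.mem_sup_left hw)).2 b hb
  refine hna fun u hu => ?_
  have hcopΦ : (Nat.card B).Coprime (Nat.card (frattini ↥U)) :=
    h.coprime_a.coprime_dvd_right (frattini ↥U).card_subgroup_dvd_card
  exact ((le_centralizer_of_frattini hBU hcopΦ fun b hb w hw => hsub (hUBD (by
    rw [show b * w * b⁻¹ * w⁻¹ = (⁅w, b⁆)⁻¹ by simp only [commutatorElement_def]; group]
    exact inv_mem (Subgroup.commutator_mem_commutator hw hb)))) (Subgroup.mem_zpowers a) u hu).symm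

theorem class_two [Nontrivial W] {u₀ v₀ : Y} (hu₀ : u₀ ∈ U) (hv₀ : v₀ ∈ U)
    (hne₀ : u₀ * v₀ ≠ v₀ * u₀) (hna : ¬ ∀ u ∈ U, a * u = u * a) :
    ∀ u ∈ U, ∀ v ∈ U, ⁅u, v⁆ ∈ U ⊓ Subgroup.centralizer (U : Set Y) := by
  classical
  haveI := Fact.mk h.hq
  set Z := U ⊓ Subgroup.centralizer (U : Set Y) with hZdef
  have hZU : Z ≤ U := inf_le_left
  have hZc : ∀ z ∈ Z, ∀ u ∈ U, z * u = u * z := fun z hz u hu => (hz.2 u hu).symm
  set B := Subgroup.zpowers a with hB
  set X := Subgroup.zpowers x with hX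
  have hUB := h.commutator_a_eq hna
  have hXU := zpowers_le_normalizer h.hxU
  let N : Subgroup Y :=
    { carrier := {w | w ∈ U ∧ ∀ v ∈ U, ⁅w, v⁆ ∈ Z}
      one_mem' := ⟨U.one_mem, fun v _ => by rw [commutatorElement_one_left]; exact Z.one_mem⟩
      mul_mem' := fun {v w} hv hw => ⟨U.mul_mem hv.1 hw.1, fun b hb => by
        rw [show ⁅v * w, b⁆ = v * ⁅w, b⁆ * v⁻¹ * ⁅v, b⁆ by simp only [commutatorElement_def]; group,
          ← hZc _ (hw.2 b hb) v hv.1, mul_inv_cancel_right]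
        exact Z.mul_mem (hw.2 b hb) (hv.2 b hb)⟩
      inv_mem' := fun {v} hv => ⟨U.inv_mem hv.1, fun b hb => by
        have := hZc _ (Z.inv_mem (hv.2 b hb)) v⁻¹ (U.inv_mem hv.1)
        rw [show ⁅v⁻¹, b⁆ = v⁻¹ * ⁅v, b⁆⁻¹ * v by simp only [commutatorElement_def]; group, ← this,
          inv_mul_cancel_right]
        exact Z.inv_mem (hv.2 b hb)⟩ }
  have hNU : N ≤ U := fun w hw => hw.1
  suffices N = U from fun u hu v hv => (this.ge hu).2 v hv
  by_contra hNne
  have hnorm : ∀ g : Y, g ∈ Subgroup.normalizer (U : Set Y) → (∀ z ∈ Z, g * z * g⁻¹ ∈ Z) →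
      ∀ w ∈ N, g * w * g⁻¹ ∈ N := by
    intro g hg hgZ w hw
    refine ⟨conj_mem_of_le_normalizer hg _ hw.1, fun v hv => ?_⟩
    have hv' : g⁻¹ * v * g ∈ U := by
      simpa using conj_mem_of_le_normalizer (inv_mem hg) v hv
    rw [show ⁅g * w * g⁻¹, v⁆ = g * ⁅w, g⁻¹ * v * g⁆ * g⁻¹ by simp only [commutatorElement_def]; group]
    exact hgZ _ (hw.2 _ hv')
  have hxN := hnorm x (hXU (Subgroup.mem_zpowers x)) h.x_normalizes_center
  have haN := hnorm a (zpowers_le_normalizer h.haU (Subgroup.mem_zpowers a)) h.a_normalizes_center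
  have hUN : U ≤ Subgroup.normalizer (N : Set Y) := fun u hu => mem_normalizer_of_conj fun w hw =>
    hnorm u (Subgroup.le_normalizer hu) (fun z hz => by
      rw [← hZc z hz u hu, mul_inv_cancel_right]; exact hz) w hw
  have hIH1 := h.hIH N (lt_of_le_of_ne hNU hNne) hxN haN
  have hNX : X ≤ Subgroup.normalizer (N : Set Y) := zpowers_le_normalizer hxN
  have hNA : ⁅N, X⁆ ≤ Z := by
    intro w hw
    have hwN : w ∈ N := commutator_le_left_of_le_normalizer hNX hw
    refine ⟨hwN.1, ?_⟩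
    have h1 : ⁅⁅B, Subgroup.zpowers w⁆, U⁆ = ⊥ := by
      have : ⁅Subgroup.zpowers w, B⁆ = ⊥ := Subgroup.commutator_eq_bot_iff_le_centralizer.2
        (Subgroup.zpowers_le.2 fun g hg => by
          obtain ⟨i, rfl⟩ := Subgroup.mem_zpowers_iff.1 hg
          exact ((show Commute a w from hIH1 w hw).zpow_left i).eq)
      rw [Subgroup.commutator_comm B, this, Subgroup.commutator_bot_left]
    have h2 : ⁅⁅Subgroup.zpowers w, U⁆, B⁆ = ⊥ := by
      refine Subgroup.commutator_eq_bot_iff_le_centralizer.2 (Subgroup.commutator_le.2 fun g hg v hv => ?_)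
      have hgN : g ∈ N := (Subgroup.zpowers_le.2 hwN) hg
      refine fun b hb => ?_
      obtain ⟨i, rfl⟩ := Subgroup.mem_zpowers_iff.1 hb
      exact ((show Commute a ⁅g, v⁆ from
        h.a_centralizes_center hu₀ hv₀ hne₀ _ (hgN.2 v hv)).zpow_left i).eq
    have h3 := Subgroup.commutator_commutator_eq_bot_of_rotate h1 h2
    rw [hUB] at h3
    exact fun u hu => ((Subgroup.commutator_eq_bot_iff_le_centralizer.1 h3) hu w (Subgroup.mem_zpowers w)).symm
  have hNx : N ≤ Subgroup.centralizer (X : Set Y) := by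
    refine Subgroup.commutator_eq_bot_iff_le_centralizer.1 (commutator_eq_bot_of_commutator_commutator hNX
      ((coprime_zpowers h.hq h.hr h.hqr h.hU h.hxr).coprime_dvd_right (Subgroup.card_dvd_of_le hNU))
      (Subgroup.commutator_eq_bot_iff_le_centralizer.2 (le_centralizer_zpowers.2 fun w hw =>
        h.x_centralizes_center hu₀ hv₀ hne₀ w (hNA hw))))
  have hNcen := central_of_centralizes hUN hNx h.hcomm
  have hNZ : N ≤ Z := fun w hw => ⟨hw.1, fun u hu => (hNcen w hw u hu).symm⟩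
  -- nilpotency forces a larger second centre
  haveI := h.hU.isNilpotent
  haveI : Nontrivial (↥U ⧸ Subgroup.center ↥U) := QuotientGroup.nontrivial_iff.2 fun e => hne₀ (by
    have := Subgroup.mem_center_iff.1 (e.ge (Subgroup.mem_top (⟨u₀, hu₀⟩ : U))) ⟨v₀, hv₀⟩
    exact (congrArg Subtype.val this).symm)
  haveI : Group.IsNilpotent (↥U ⧸ Subgroup.center ↥U) := inferInstance
  haveI : Nontrivial (Subgroup.center (↥U ⧸ Subgroup.center ↥U)) :=
    (Subgroup.nontrivial_iff_ne_bot _).2 (Group.IsNilpotent.center_ne_bot _)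
  obtain ⟨⟨y, hy⟩, hy1⟩ := exists_ne (1 : Subgroup.center (↥U ⧸ Subgroup.center ↥U))
  obtain ⟨v, rfl⟩ := QuotientGroup.mk'_surjective (Subgroup.center ↥U) y
  refine hy1 (Subtype.ext ((QuotientGroup.eq_one_iff v).2 ?_))
  have hvN : (v : Y) ∈ N := by
    refine ⟨v.2, fun w hw => ?_⟩
    have h1 : ⁅v, (⟨w, hw⟩ : U)⁆ ∈ Subgroup.center ↥U := by
      rw [← QuotientGroup.eq_one_iff]
      show QuotientGroup.mk' (Subgroup.center ↥U) ⁅v, (⟨w, hw⟩ : U)⁆ = 1
      rw [map_commutatorElement, commutatorElement_eq_one_iff_mul_comm]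
      exact (Subgroup.mem_center_iff.1 hy _).symm
    exact ⟨(⁅v, (⟨w, hw⟩ : U)⁆).2, fun u hu =>
      congrArg Subtype.val (Subgroup.mem_center_iff.1 h1 ⟨u, hu⟩)⟩
  exact Subgroup.mem_center_iff.2 fun w => Subtype.ext ((hNZ hvN).2 w w.2)

/-- The final step. -/
theorem centralizes : ∀ u ∈ U, a * u = u * a := by
  classical
  haveI := Fact.mk h.hq
  by_cases hW : Subsingleton W
  · intro u hu
    have hu1 : u = 1 := h.hinj u hu (LinearMap.ext fun v => Subsingleton.elim _ _)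
    rw [hu1]; simp
  haveI : Nontrivial W := not_subsingleton_iff_nontrivial.1 hW
  by_contra hna
  obtain ⟨u₀, hu₀, v₀, hv₀, hne₀⟩ : ∃ u ∈ U, ∃ v ∈ U, u * v ≠ v * u := by
    by_contra hh
    push Not at hh
    exact hna (h.abelian_case hh)
  obtain ⟨c, hc0, hspan, hac⟩ := h.exists_line
  have h2 := h.class_two hu₀ hv₀ hne₀ hna
  set Z := U ⊓ Subgroup.centralizer (U : Set Y) with hZdef
  have hZx := h.x_centralizes_center hu₀ hv₀ hne₀
  have hZscal := h.center_scalar hu₀ hv₀ hne₀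
  choose! lam hlam using hZscal
  have hDZ : ⁅U, U⁆ ≤ Z := Subgroup.commutator_le.2 h2
  have hlam1 : ∀ z ∈ Z, lam z = 1 → z = 1 := fun z hz e => h.hinj z hz.1 (by rw [hlam z hz, e, one_smul])
  have hcen : Central ρ U Z x r lam := by
    refine ⟨h.hr, h.hxr, h.hxU, inf_le_left, hZx, fun z hz u hu => (hz.2 u hu).symm, h2, hlam,
      fun u hu hh => ?_, fun u hu hz => ?_, h.card_ne_zero le_rfl⟩
    · exact ⟨hu, fun v hv => (commutatorElement_eq_one_iff_mul_comm.1 (hlam1 _ (h2 u hu v hv) (hh v hv))).symm⟩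
    · set d := x * u * x⁻¹ * u⁻¹ with hd
      have h1 := CfsgLib.Coprime.pow_conj_eq (show x * u * x⁻¹ = d * u by rw [hd]; group) (hZx d hz) r
      rw [h.hxr, one_mul, inv_one, mul_one] at h1
      have e1 : orderOf d ∣ r := orderOf_dvd_of_pow_eq_one (right_eq_mul.1 h1)
      obtain ⟨j, hj⟩ := (IsPGroup.iff_orderOf.1 h.hU) ⟨d, hz.1⟩
      rw [Subgroup.orderOf_mk] at hj
      have e3 : d = 1 := orderOf_eq_one_iff.1
        (Nat.eq_one_of_dvd_coprimes (((Nat.coprime_primes h.hr h.hq).2 h.hqr.symm).pow_right j) e1 hj.dvd)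
      refine hDZ (h.fixed_mem_commutator hu ?_)
      rw [hd] at e3
      calc x * u = x * u * x⁻¹ * u⁻¹ * (u * x) := by group
        _ = u * x := by rw [e3, one_mul]
  have hbT : Module.finrank K ↥(commS ρ U ⊓ comm (ρ x)) ≤ 1 := by
    refine le_trans (Submodule.finrank_mono (t := Submodule.span K {(1 : Module.End K W)}) ?_)
      (le_of_eq (finrank_span_singleton one_ne_zero))
    intro g hg
    obtain ⟨μ, rfl⟩ := h.scalar (fun u hu => (hg.1 u hu).symm) (mem_comm.1 hg.2).symm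
    exact Submodule.mem_span_singleton.2 ⟨μ, rfl⟩
  have hfix1 : Module.finrank K (fix ρ x) = 1 := by rw [hspan, finrank_span_singleton hc0]
  have hX0 : (Nat.card (Subgroup.zpowers x) : K) ≠ 0 := by
    rw [Nat.card_zpowers]
    rcases h.hr.eq_one_or_self_of_dvd _ (orderOf_dvd_of_pow_eq_one h.hxr) with e | e <;> rw [e]
    · simp
    · exact h.r_ne_zero
  have hquad : (ρ a - 1) * (ρ a - 1) = 0 := by
    refine eq_of_eq_on_comp ρ (Subgroup.zpowers x) (fun s hs t ht => ?_) hX0 fun μ v hv => ?_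
    · obtain ⟨i, rfl⟩ := Subgroup.mem_zpowers_iff.1 hs
      obtain ⟨j, rfl⟩ := Subgroup.mem_zpowers_iff.1 ht
      exact (Commute.zpow_zpow_self x i j).eq
    set μx : K := (μ ⟨x, Subgroup.mem_zpowers x⟩ : K) with hμx
    have hvx : ρ x v = μx • v := hv ⟨x, Subgroup.mem_zpowers x⟩
    rw [LinearMap.zero_apply]
    by_cases h1 : μx = 1
    · have hvf : v ∈ fix ρ x := by show ρ x v = v; rw [hvx, h1, one_smul]
      rw [hspan, Submodule.mem_span_singleton] at hvf
      obtain ⟨t, rfl⟩ := hvf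
      simp [Module.End.mul_apply, LinearMap.sub_apply, map_smul, hac]
    · have hdim := hcen.eigen_le_two h.r_ne_zero h.hr3 hfix1 hbT h1
      set E := Module.End.eigenspace (ρ x) μx
      have hEinv : ∀ w ∈ E, (ρ a - 1) w ∈ E := fun w hw => by
        rw [Module.End.mem_eigenspace_iff] at hw ⊢
        simp only [LinearMap.sub_apply, Module.End.one_apply, map_sub, rho_commute ρ h.hax.symm, hw,
          map_smul, smul_sub]
      let f : Module.End K E := (ρ a - 1).restrict hEinv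
      have hnil : f ^ p ^ k = 0 := by
        have e : (ρ a - 1) ^ p ^ k = 0 := by
          haveI : Nontrivial (Module.End K W) := inferInstance
          haveI : CharP (Module.End K W) p := charP_of_injective_algebraMap
            (FaithfulSMul.algebraMap_injective K (Module.End K W)) p
          haveI : ExpChar (Module.End K W) p := ExpChar.prime Fact.out
          rw [sub_pow_char_pow_of_commute (p := p) (n := k) (h := Commute.one_right (ρ a)), one_pow, ← map_pow, h.hap, map_one,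
            sub_self]
        refine LinearMap.ext fun w => Subtype.ext ?_
        rw [Module.End.pow_restrict _ , LinearMap.restrict_apply]
        show ((ρ a - 1) ^ p ^ k) (w : W) = 0
        rw [e]; rfl
      have h22 : f ^ 2 = 0 := by
        have hle : Module.finrank K E ≤ p ^ k ∨ p ^ k < Module.finrank K E := le_or_gt _ _
        rcases hle with hle | hlt
        · have hk1 := Module.End.ker_pow_eq_ker_pow_finrank_of_le (f := f) hle
          have hk2 := Module.End.ker_pow_eq_ker_pow_finrank_of_le (f := f) (m := 2) hdim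
          rw [← hk1, hnil, LinearMap.ker_zero] at hk2
          exact LinearMap.ker_eq_top.1 hk2
        · have : p ^ k < 2 := lt_of_lt_of_le hlt hdim
          have hk0 : p ^ k = 1 := by have := Nat.one_le_pow k p (Fact.out : p.Prime).pos; omega
          rw [hk0, pow_one] at hnil
          rw [hnil, sq, mul_zero]
      have hvE : v ∈ E := Module.End.mem_eigenspace_iff.2 hvx
      have := congrArg Subtype.val (LinearMap.congr_fun h22 ⟨v, hvE⟩)
      simpa [sq, Module.End.mul_apply, f] using this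
  exact hna fun u hu => eq_of_commute_of_injOn h.hinj h.haU hu
    (quadratic_centralizes h.hp2 h.hpq h.hodd h.hU h.haU hquad u hu)

end LineSetting

end Step

/-- A `p`-element commuting with `x` centralizes `[U, x]` when `x` fixes at most a line. -/
theorem line_central {W Y : Type*} [AddCommGroup W] [Module K W] [FiniteDimensional K W] [Group Y] [Finite Y]
    {ρ : Y →* Module.End K W} {p q r k : ℕ} [Fact p.Prime] [CharP K p] (hp2 : p ≠ 2) (hq : q.Prime)
    (hr : r.Prime) (hpq : p ≠ q) (hpr : p ≠ r) (hqr : q ≠ r) (hodd : Odd (Nat.card Y)) (hr3 : 3 ≤ r)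
    (hq2 : q ≠ 2) {x a : Y} (hxr : x ^ r = 1) (hax : a * x = x * a) (hap : a ^ p ^ k = 1)
    (hfix : Module.finrank K (fix ρ x) ≤ 1) :
    ∀ U : Subgroup Y, IsPGroup q U → (∀ u ∈ U, x * u * x⁻¹ ∈ U) → (∀ u ∈ U, a * u * a⁻¹ ∈ U) →
      (∀ u ∈ U, ρ u = 1 → u = 1) → IsCyclic ↥(U ⊓ Subgroup.centralizer ({x} : Set Y)) →
      ∀ u ∈ ⁅U, Subgroup.zpowers x⁆, a * u = u * a := by
  classical
  haveI := Fact.mk hq
  intro U
  induction hn : Nat.card U using Nat.strong_induction_on generalizing U with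
  | _ n ih =>
  intro hU hxU haU hinj hcyc
  subst hn
  set X := Subgroup.zpowers x with hX
  have hXU := zpowers_le_normalizer hxU
  have hcop := coprime_zpowers hq hr hqr hU hxr
  have hsolv : Group.IsSolvable X ∨ Group.IsSolvable U := Or.inr (by haveI := hU.isNilpotent; infer_instance)
  have hrec : ∀ V : Subgroup Y, V < U → (∀ u ∈ V, x * u * x⁻¹ ∈ V) → (∀ u ∈ V, a * u * a⁻¹ ∈ V) →
      ∀ u ∈ ⁅V, X⁆, a * u = u * a := fun V hV h1 h2 =>
    ih _ (Set.Finite.card_lt_card (Set.toFinite _) (SetLike.coe_ssubset_coe.2 hV)) V rfl (hU.to_le hV.le) h1 h2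
      (fun u hu => hinj u (hV.le hu))
      (isCyclic_of_injective (Subgroup.inclusion (inf_le_inf_right _ hV.le)) (Subgroup.inclusion_injective _))
  have hU1 : ⁅U, X⁆ ≤ U := commutator_le_left_of_le_normalizer hXU
  by_cases hcomm : ⁅U, X⁆ = U
  swap
  · intro u hu
    have hxC : ∀ v ∈ ⁅U, X⁆, x * v * x⁻¹ ∈ ⁅U, X⁆ := conj_mem_of_le_normalizer
      (le_normalizer_commutator hXU Subgroup.le_normalizer (Subgroup.mem_zpowers x))
    have haX : a ∈ Subgroup.normalizer (X : Set Y) := Subgroup.centralizer_le_normalizer _ fun g hg => by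
      obtain ⟨i, rfl⟩ := Subgroup.mem_zpowers_iff.1 hg
      exact ((show Commute x a from hax.symm).zpow_left i).eq
    have haC : ∀ v ∈ ⁅U, X⁆, a * v * a⁻¹ ∈ ⁅U, X⁆ := conj_mem_of_le_normalizer
      (le_normalizer_commutator (zpowers_le_normalizer haU) (Subgroup.zpowers_le.2 haX)
        (Subgroup.mem_zpowers a))
    refine hrec _ (lt_of_le_of_ne hU1 hcomm) hxC haC u ?_
    rwa [commutator_commutator_eq hXU hcop hsolv]
  rw [hcomm]
  -- the part without fixed vectors
  have hU0 := natCast_ne_zero_of_isPGroup (K := K) hU (fun e =>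
    hpq ((Nat.prime_dvd_prime_iff_eq Fact.out hq).1 ((CharP.cast_eq_zero_iff K p _).1 e)))
  let S : Submodule K W := LinearMap.ker (avg ρ U)
  have hstab : ∀ g : Y, (∀ u ∈ U, g * u * g⁻¹ ∈ U) → g ∈ stab ρ S := by
    intro g hg v hv
    rw [LinearMap.mem_ker] at hv ⊢
    rw [← Module.End.mul_apply, ← avg_commute ρ hg, Module.End.mul_apply, hv, map_zero]
  have hUS : U ≤ stab ρ S := fun u hu => hstab u (conj_mem_of_le_normalizer (Subgroup.le_normalizer hu))
  have hxS := hstab x hxU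
  have haS := hstab a haU
  set U' := U.subgroupOf (stab ρ S) with hU'def
  have hmap : U'.map (stab ρ S).subtype = U := Subgroup.map_subgroupOf_eq_of_le hUS
  have hsplit : ∀ u ∈ U, (∀ v ∈ S, ρ u v = v) → u = 1 := by
    intro u hu h
    refine hinj u hu (LinearMap.ext fun v => ?_)
    have hv : v - (Nat.card U : K)⁻¹ • avg ρ U v ∈ S := by
      have hfx : avg ρ U (avg ρ U v) = (Nat.card U : K) • avg ρ U v :=
        avg_of_fixed ρ fun b hb => by rw [← Module.End.mul_apply, mul_avg ρ hb]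
      rw [LinearMap.mem_ker, map_sub, map_smul, hfx, smul_smul, inv_mul_cancel₀ hU0, one_smul, sub_self]
    have h1 := h _ hv
    rw [map_sub, map_smul, ← Module.End.mul_apply, mul_avg ρ hu] at h1
    rw [Module.End.one_apply]
    simpa using h1
  have key : LineSetting (res ρ S) p q r k (⟨x, hxS⟩ : stab ρ S) ⟨a, haS⟩ U' := by
    refine ⟨hp2, hq, hr, hpq, hpr, hqr, hodd.of_dvd_nat (stab ρ S).card_subgroup_dvd_card, hr3, hq2,
      Subtype.ext hxr, Subtype.ext hax, Subtype.ext hap, ?_,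
      hU.of_equiv (Subgroup.subgroupOfEquivOfLe hUS).symm, fun u hu => hxU _ hu, fun u hu => haU _ hu,
      fun u hu e => Subtype.ext (hsplit _ hu fun v hv => (res_eq_one_iff ρ S u).1 e v hv), ?_, ?_, ?_, ?_⟩
    · let L : fix (res ρ S) (⟨x, hxS⟩ : stab ρ S) →ₗ[K] fix ρ x :=
        ((S.subtype).comp (Submodule.subtype _)).codRestrict _ fun v => congrArg Subtype.val v.2
      exact (LinearMap.finrank_le_finrank_of_injective (f := L) fun v w e =>
        Subtype.ext (Subtype.ext (congrArg Subtype.val e :))).trans hfix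
    · apply Subgroup.map_injective (stab ρ S).subtype_injective
      rw [Subgroup.map_commutator, hmap, MonoidHom.map_zpowers]
      exact hcomm
    · intro v hv
      refine Subtype.ext ?_
      have hfx : ∀ u ∈ U, ρ u (v : W) = v := fun u hu =>
        congrArg Subtype.val (hv ⟨u, hUS hu⟩ hu)
      have h0 : avg ρ U (v : W) = 0 := v.2
      rw [avg_of_fixed ρ hfx] at h0
      exact (smul_eq_zero.1 h0).resolve_left hU0
    · let f : ↥(U' ⊓ Subgroup.centralizer ({(⟨x, hxS⟩ : stab ρ S)} : Set (stab ρ S))) →*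
          ↥(U ⊓ Subgroup.centralizer ({x} : Set Y)) :=
        { toFun := fun u => ⟨((u : stab ρ S) : Y), u.2.1, fun w hw => by
            rw [Set.mem_singleton_iff] at hw
            subst hw
            exact congrArg Subtype.val (u.2.2 _ rfl)⟩
          map_one' := rfl
          map_mul' := fun _ _ => rfl }
      exact isCyclic_of_injective f fun u v e => Subtype.ext (Subtype.ext (congrArg Subtype.val e :))
    · intro V hV hxV haV u hu
      have hVU : V.map (stab ρ S).subtype < U := by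
        rw [← hmap]
        exact lt_of_le_of_ne (Subgroup.map_mono hV.le) fun e => hV.ne (Subgroup.map_injective (stab ρ S).subtype_injective e)
      refine Subtype.ext (hrec _ hVU ?_ ?_ u ?_)
      · rintro _ ⟨w, hw, rfl⟩; exact ⟨_, hxV w hw, rfl⟩
      · rintro _ ⟨w, hw, rfl⟩; exact ⟨_, haV w hw, rfl⟩
      · have := Subgroup.mem_map_of_mem (stab ρ S).subtype hu
        rwa [Subgroup.map_commutator, MonoidHom.map_zpowers] at this
  intro u hu
  exact congrArg Subtype.val (key.centralizes ⟨u, hUS hu⟩ hu)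

end CfsgLib.BG.FixedLine
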