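import Cfsg.Agent.Lib.BG.FixedLine.Setup

/-!
Characters of an abelian normal subgroup in a module where `x` fixes at most a line.
-/

set_option autoImplicit false
set_option linter.style.haveILetI false
set_option linter.unusedSectionVars false

open scoped commutatorElement

namespace CfsgLib.BG.FixedLine

variable {K W Y : Type*} [Field K] [AddCommGroup W] [Module K W] [Group Y] [Finite Y]
  (ρ : Y →* Module.End K W) (A : Subgroup Y)

/-- A linear character of the subgroup. -/
abbrev Chi (K : Type*) [Field K] {Y : Type*} [Group Y] (A : Subgroup Y) := A →* Kˣ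

instance : MulAction (Subgroup.normalizer (A : Set Y)) (Chi K A) where
  smul g μ := μ.comp (CfsgLib.Coprime.conjAct (le_refl (Subgroup.normalizer (A : Set Y))) g⁻¹).toMonoidHom
  one_smul μ := MonoidHom.ext fun a => by
    show μ (CfsgLib.Coprime.conjAct le_rfl ((1 : Subgroup.normalizer (A : Set Y)))⁻¹ a) = μ a
    rw [inv_one, map_one]; rfl
  mul_smul g h μ := MonoidHom.ext fun a => by
    show μ (CfsgLib.Coprime.conjAct le_rfl (g * h)⁻¹ a) =
      μ (CfsgLib.Coprime.conjAct le_rfl h⁻¹ (CfsgLib.Coprime.conjAct le_rfl g⁻¹ a))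
    rw [mul_inv_rev, map_mul]; rfl

theorem smul_chi_apply (g : Subgroup.normalizer (A : Set Y)) (μ : Chi K A) (a : A) :
    (g • μ) a = μ (CfsgLib.Coprime.conjAct le_rfl g⁻¹ a) := rfl

/-- The component of a character. -/
def comp (μ : Chi K A) : Submodule K W where
  carrier := {v | ∀ a : A, ρ (a : Y) v = (μ a : K) • v}
  add_mem' {v w} hv hw a := by rw [map_add, hv a, hw a, smul_add]
  zero_mem' a := by rw [map_zero, smul_zero]
  smul_mem' c v hv a := by rw [map_smul, hv a, smul_comm]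

theorem mem_comp {μ : Chi K A} {v : W} : v ∈ comp ρ A μ ↔ ∀ a : A, ρ (a : Y) v = (μ a : K) • v := Iff.rfl

theorem rho_mem_comp (g : Subgroup.normalizer (A : Set Y)) {μ : Chi K A} {v : W} (hv : v ∈ comp ρ A μ) :
    ρ (g : Y) v ∈ comp ρ A (g • μ) := by
  intro a
  set b : A := CfsgLib.Coprime.conjAct le_rfl g⁻¹ a with hb
  have e : (a : Y) * (g : Y) = (g : Y) * (b : Y) := by
    rw [hb, CfsgLib.Coprime.coe_conjAct]
    simp only [Subgroup.coe_inv, inv_inv]
    group
  rw [← rho_mul, e, rho_mul, hv b, map_smul]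
  rfl

/-- The projection to the component of a character. -/
noncomputable def proj (μ : Chi K A) : Module.End K W :=
  haveI := Fintype.ofFinite A
  ∑ a : A, ((μ a)⁻¹ : Kˣ).val • ρ (a : Y)

theorem proj_apply [Fintype A] (μ : Chi K A) (v : W) :
    proj ρ A μ v = ∑ a : A, ((μ a)⁻¹ : Kˣ).val • ρ (a : Y) v := by
  unfold proj
  rw [LinearMap.sum_apply]
  simp only [LinearMap.smul_apply]
  convert rfl

theorem proj_mem (μ : Chi K A) (v : W) : proj ρ A μ v ∈ comp ρ A μ := by
  haveI := Fintype.ofFinite A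
  intro b
  rw [proj_apply, map_sum, Finset.smul_sum]
  refine Fintype.sum_equiv (Equiv.mulLeft b) _ _ fun a => ?_
  rw [map_smul, ← rho_mul, Equiv.coe_mulLeft, smul_smul]
  congr 1
  simp [map_mul]
  field_simp

theorem proj_self {μ : Chi K A} {v : W} (hv : v ∈ comp ρ A μ) :
    proj ρ A μ v = (Nat.card A : K) • v := by
  haveI := Fintype.ofFinite A
  rw [proj_apply, Finset.sum_congr rfl (g := fun _ => v) (fun a _ => by
    rw [hv a, smul_smul, Units.inv_mul, one_smul]), Finset.sum_const, Finset.card_univ,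
    ← Nat.card_eq_fintype_card, Nat.cast_smul_eq_nsmul]

theorem proj_other {μ ν : Chi K A} (hne : μ ≠ ν) {v : W} (hv : v ∈ comp ρ A ν) : proj ρ A μ v = 0 := by
  haveI := Fintype.ofFinite A
  obtain ⟨b, hb⟩ : ∃ b, ((μ b)⁻¹ * ν b : Kˣ) ≠ 1 := by
    by_contra h
    push Not at h
    exact hne (MonoidHom.ext fun b => inv_mul_eq_one.1 (h b))
  rw [proj_apply, Finset.sum_congr rfl (g := fun a => (((μ a)⁻¹ * ν a : Kˣ) : K) • v) (fun a _ => by
    rw [hv a, smul_smul, Units.val_mul]), ← Finset.sum_smul]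
  convert zero_smul K v
  by_contra h0
  refine hb (Units.ext ((mul_eq_right₀ h0).1 ?_))
  rw [Finset.mul_sum]
  exact Fintype.sum_equiv (Equiv.mulLeft b) _ _ fun a => by
    rw [← Units.val_mul]; congr 1
    simp [map_mul, mul_inv_rev, mul_comm, mul_left_comm, mul_assoc]

variable [IsAlgClosed K]

theorem sum_proj (hA : ∀ a ∈ A, ∀ b ∈ A, a * b = b * a) (hA0 : (Nat.card A : K) ≠ 0) :
    ∃ hf : Fintype (Chi K A), ∀ v : W, (∑ μ ∈ @Finset.univ (Chi K A) hf, proj ρ A μ v) = (Nat.card A : K) • v := by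
  classical
  letI : CommGroup A := { (inferInstance : Group A) with mul_comm := fun a b => Subtype.ext (hA a a.2 b b.2) }
  haveI := Fintype.ofFinite A
  haveI : NeZero ((Monoid.exponent A : ℕ) : K) := ⟨fun h0 => by
    obtain ⟨k, hk⟩ := (Group.exponent_dvd_nat_card (G := A))
    exact hA0 (by rw [hk, Nat.cast_mul, h0, zero_mul])⟩
  have hcard : Nat.card (Chi K A) = Nat.card A :=
    CommGroup.card_monoidHom_of_hasEnoughRootsOfUnity A K
  haveI : Finite (Chi K A) := Nat.finite_of_card_ne_zero (by rw [hcard]; exact Nat.card_pos.ne')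
  letI hf := Fintype.ofFinite (Chi K A)
  refine ⟨hf, fun v => ?_⟩
  simp only [proj_apply]
  rw [Finset.sum_comm]
  simp only [← Finset.sum_smul]
  rw [Finset.sum_eq_single (1 : A)]
  · simp [hcard, ← Nat.card_eq_fintype_card]
  · intro a _ ha
    convert zero_smul K _
    obtain ⟨φ, hφ⟩ := CommGroup.exists_apply_ne_one_of_hasEnoughRootsOfUnity A K ha
    by_contra h0
    have key : ((φ a)⁻¹ : Kˣ).val * ∑ μ : Chi K A, ((μ a)⁻¹ : Kˣ).val = ∑ μ : Chi K A, ((μ a)⁻¹ : Kˣ).val := by
      rw [Finset.mul_sum]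
      exact Fintype.sum_equiv (Equiv.mulLeft φ) _ _ fun μ => by
        rw [← Units.val_mul]; congr 1
        rw [Equiv.coe_mulLeft, MonoidHom.mul_apply, mul_inv]
    exact hφ (inv_eq_one.1 (Units.ext ((mul_eq_right₀ h0).1 key)))
  · intro h; exact absurd (Finset.mem_univ _) h

/-- A property holding on every component holds everywhere. -/
theorem eq_of_eq_on_comp (hA : ∀ a ∈ A, ∀ b ∈ A, a * b = b * a) (hA0 : (Nat.card A : K) ≠ 0)
    {f g : Module.End K W} (h : ∀ μ : Chi K A, ∀ v ∈ comp ρ A μ, f v = g v) : f = g := by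
  obtain ⟨hf, hsum⟩ := sum_proj ρ A hA hA0
  refine LinearMap.ext fun v => ?_
  have h1 := congrArg f (hsum v)
  have h2 := congrArg g (hsum v)
  rw [map_sum, map_smul] at h1 h2
  exact smul_right_injective W hA0 (h1.symm.trans ((Finset.sum_congr rfl fun μ _ => h μ _ (proj_mem ρ A μ v)).trans h2))

theorem exists_comp_ne_bot (hA : ∀ a ∈ A, ∀ b ∈ A, a * b = b * a) (hA0 : (Nat.card A : K) ≠ 0)
    [Nontrivial W] : ∃ μ : Chi K A, comp ρ A μ ≠ ⊥ := by
  by_contra h
  push Not at h
  refine (one_ne_zero (α := Module.End K W)) (eq_of_eq_on_comp ρ A hA hA0 fun μ v hv => ?_)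
  rw [h μ, Submodule.mem_bot] at hv
  simp [hv]

variable [FiniteDimensional K W] {x : Subgroup.normalizer (A : Set Y)} {r : ℕ}

theorem pow_smul_ne (hr : r.Prime) (hxr : x ^ r = 1) {μ : Chi K A} (hμ : x • μ ≠ μ) {i j : ℕ}
    (hij : i < j) (hj : j < r) : x ^ i • μ ≠ x ^ j • μ := by
  intro e
  have h1 : x ^ (j - i) • μ = μ := by
    have := congrArg (fun t => (x ^ i)⁻¹ • t) e
    simp only [inv_smul_smul] at this
    rw [show j = i + (j - i) by omega, pow_add, mul_smul, inv_smul_smul] at this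
    exact this.symm
  let F := MulAction.stabilizer (Subgroup.normalizer (A : Set Y)) μ
  have hco : Nat.gcd (j - i) r = 1 :=
    Nat.Coprime.symm (hr.coprime_iff_not_dvd.2 fun hd => absurd (Nat.le_of_dvd (by omega) hd) (by omega))
  have e' := Nat.gcd_eq_gcd_ab (j - i) r
  rw [hco, Nat.cast_one] at e'
  refine hμ (MulAction.mem_stabilizer_iff.1 (show x ∈ F from ?_))
  rw [← zpow_one x, e', zpow_add, zpow_mul, zpow_mul, zpow_natCast, zpow_natCast, hxr, one_zpow, mul_one]
  exact zpow_mem (show x ^ (j - i) ∈ F from h1) _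

/-- The orbit sum of a vector of a moved component. -/
theorem exists_fixed_proj (hr : r.Prime) (hxr : x ^ r = 1) {μ : Chi K A} (hμ : x • μ ≠ μ)
    {v : W} (hv : v ∈ comp ρ A μ) :
    ∃ f ∈ fix ρ (x : Y), proj ρ A μ f = (Nat.card A : K) • v ∧
      ∀ ν : Chi K A, (∀ i < r, ν ≠ x ^ i • μ) → proj ρ A ν f = 0 := by
  refine ⟨∑ i ∈ Finset.range r, ρ ((x : Y) ^ i) v, ?_, ?_, ?_⟩
  · rw [mem_fix, map_sum]
    simp only [← rho_mul, ← pow_succ']
    have h1 := Finset.sum_range_succ' (fun i => ρ ((x : Y) ^ i) v) r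
    have h2 := Finset.sum_range_succ (fun i => ρ ((x : Y) ^ i) v) r
    have hxr' : (x : Y) ^ r = 1 := congrArg Subtype.val hxr
    simp only [pow_zero, hxr'] at h1 h2
    exact add_right_cancel (h1.symm.trans h2)
  · rw [map_sum, Finset.sum_eq_single 0]
    · rw [pow_zero, map_one, Module.End.one_apply, proj_self ρ A hv]
    · intro i hi hi0
      have := rho_mem_comp ρ A (x ^ i) hv
      rw [Subgroup.coe_pow] at this
      refine proj_other ρ A ?_ this
      have h := pow_smul_ne A hr hxr hμ (Nat.pos_of_ne_zero hi0) (Finset.mem_range.1 hi)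
      rwa [pow_zero, one_smul] at h
    · intro h; exact absurd (Finset.mem_range.2 hr.pos) h
  · intro ν hν
    rw [map_sum]
    refine Finset.sum_eq_zero fun i hi => ?_
    have := rho_mem_comp ρ A (x ^ i) hv
    rw [Subgroup.coe_pow] at this
    exact proj_other ρ A (hν i (Finset.mem_range.1 hi)) this

variable (hA0 : (Nat.card A : K) ≠ 0) (hfix : Module.finrank K (fix ρ (x : Y)) ≤ 1)

include hA0 hfix

/-- The moved components are lines. -/
theorem finrank_comp_le_one (hr : r.Prime) (hxr : x ^ r = 1) {μ : Chi K A} (hμ : x • μ ≠ μ) :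
    Module.finrank K (comp ρ A μ) ≤ 1 := by
  refine le_trans ?_ hfix
  let L : comp ρ A μ →ₗ[K] W := (∑ i ∈ Finset.range r, ρ ((x : Y) ^ i)).comp (Submodule.subtype _)
  have hxr' : (x : Y) ^ r = 1 := congrArg Subtype.val hxr
  have hmem : ∀ v, L v ∈ fix ρ (x : Y) := by
    intro v
    simp only [L, LinearMap.comp_apply, LinearMap.sum_apply, mem_fix, map_sum, ← rho_mul, ← pow_succ']
    have h1 := Finset.sum_range_succ' (fun i => ρ ((x : Y) ^ i) (v : W)) r
    have h2 := Finset.sum_range_succ (fun i => ρ ((x : Y) ^ i) (v : W)) r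
    simp only [pow_zero, hxr'] at h1 h2
    exact add_right_cancel (h1.symm.trans h2)
  refine LinearMap.finrank_le_finrank_of_injective (f := L.codRestrict _ hmem) ?_
  rw [injective_iff_map_eq_zero]
  intro v hv
  have h0 : L v = 0 := congrArg Subtype.val hv
  have h1 : proj ρ A μ (L v) = (Nat.card A : K) • (v : W) := by
    simp only [L, LinearMap.comp_apply, LinearMap.sum_apply, map_sum]
    rw [Finset.sum_eq_single 0]
    · rw [pow_zero, map_one, Module.End.one_apply]
      exact proj_self ρ A v.2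
    · intro i hi hi0
      have := rho_mem_comp ρ A (x ^ i) v.2
      rw [Subgroup.coe_pow] at this
      refine proj_other ρ A ?_ this
      have h := pow_smul_ne A hr hxr hμ (Nat.pos_of_ne_zero hi0) (Finset.mem_range.1 hi)
      rwa [pow_zero, one_smul] at h
    · intro h; exact absurd (Finset.mem_range.2 hr.pos) h
  rw [h0, map_zero] at h1
  exact Subtype.ext ((smul_eq_zero.1 h1.symm).resolve_left hA0)

/-- A character seen by a fixed vector lies in the orbit of any moved character that occurs. -/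
theorem mem_orbit_of_proj_fixed (hr : r.Prime) (hxr : x ^ r = 1) {μ : Chi K A}
    (hμ : x • μ ≠ μ) (hμc : comp ρ A μ ≠ ⊥) {ν : Chi K A} {f : W} (hf : f ∈ fix ρ (x : Y))
    (hνf : proj ρ A ν f ≠ 0) : ∃ i < r, ν = x ^ i • μ := by
  by_contra hno
  push Not at hno
  obtain ⟨v, hv, hv0⟩ := Submodule.exists_mem_ne_zero_of_ne_bot hμc
  obtain ⟨f0, hf0, h1, h2⟩ := exists_fixed_proj ρ A hr hxr hμ hv
  have hf0ne : f0 ≠ 0 := fun e => hv0 (by
    rw [e, map_zero] at h1
    exact (smul_eq_zero.1 h1.symm).resolve_left hA0)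
  have hspan : fix ρ (x : Y) = Submodule.span K {f0} :=
    (Submodule.eq_of_le_of_finrank_le ((Submodule.span_singleton_le_iff_mem f0 _).2 hf0)
      (by rw [finrank_span_singleton hf0ne]; exact hfix)).symm
  rw [hspan, Submodule.mem_span_singleton] at hf
  obtain ⟨c, rfl⟩ := hf
  rw [map_smul, h2 ν hno, smul_zero] at hνf
  exact hνf rfl

/-- Any two moved characters that occur lie in one orbit. -/
theorem moved_orbit (hr : r.Prime) (hxr : x ^ r = 1) {μ ν : Chi K A}
    (hμ : x • μ ≠ μ) (hμc : comp ρ A μ ≠ ⊥) (hν : x • ν ≠ ν) (hνc : comp ρ A ν ≠ ⊥) :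
    ∃ i < r, ν = x ^ i • μ := by
  obtain ⟨w, hw, hw0⟩ := Submodule.exists_mem_ne_zero_of_ne_bot hνc
  obtain ⟨f, hf, h1, -⟩ := exists_fixed_proj ρ A hr hxr hν hw
  exact mem_orbit_of_proj_fixed ρ A hA0 hfix hr hxr hμ hμc hf (by
    rw [h1]; exact smul_ne_zero hA0 hw0)

/-- A fixed character has no fixed vector in the presence of a moved one. -/
theorem fixed_comp_inf (hr : r.Prime) (hxr : x ^ r = 1) {μ ν : Chi K A}
    (hμ : x • μ ≠ μ) (hμc : comp ρ A μ ≠ ⊥) (hν : x • ν = ν) :
    comp ρ A ν ⊓ fix ρ (x : Y) = ⊥ := by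
  rw [Submodule.eq_bot_iff]
  rintro v ⟨hv, hvx⟩
  by_contra hv0
  obtain ⟨i, hi, e⟩ := mem_orbit_of_proj_fixed ρ A hA0 hfix hr hxr hμ hμc hvx (ν := ν) (by
    rw [proj_self ρ A hv]; exact smul_ne_zero hA0 hv0)
  refine hμ (smul_left_cancel (x ^ i) ?_)
  rw [← e, ← mul_smul, ← pow_succ, pow_succ', mul_smul, ← e, hν]

end CfsgLib.BG.FixedLine
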