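import Cfsg.Agent.Lib.BG.FixedLine.Basic
import Cfsg.Agent.Lib.Coprime.Generation
import Cfsg.Prelude.Def_Transfer

/-!
Group-theoretic and eigenspace preparations.
-/

set_option autoImplicit false
set_option linter.style.haveILetI false
set_option linter.unusedSectionVars false

open scoped commutatorElement

namespace CfsgLib.BG.FixedLine

variable {Y : Type*} [Group Y] [Finite Y]

theorem mem_normalizer_of_conj {U : Subgroup Y} {x : Y} (hxU : ∀ u ∈ U, x * u * x⁻¹ ∈ U) :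
    x ∈ Subgroup.normalizer (U : Set Y) := by
  let m : U → U := fun u => ⟨x * (u : Y) * x⁻¹, hxU u u.2⟩
  have hm : Function.Injective m := fun a b h => Subtype.ext (by
    simpa [m] using congrArg Subtype.val h)
  rw [Subgroup.mem_normalizer_iff]
  refine fun g => ⟨hxU g, fun hg => ?_⟩
  obtain ⟨b, hb⟩ := (Finite.injective_iff_bijective.1 hm).2 ⟨_, hg⟩
  have hb' : x * (b : Y) * x⁻¹ = x * g * x⁻¹ := congrArg Subtype.val hb
  have : (b : Y) = g := by simpa using hb'
  exact this ▸ b.2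

theorem zpowers_le_normalizer {U : Subgroup Y} {x : Y} (hxU : ∀ u ∈ U, x * u * x⁻¹ ∈ U) :
    Subgroup.zpowers x ≤ Subgroup.normalizer (U : Set Y) :=
  Subgroup.zpowers_le.2 (mem_normalizer_of_conj hxU)

theorem conj_mem_of_le_normalizer {U : Subgroup Y} {x : Y} (h : x ∈ Subgroup.normalizer (U : Set Y)) :
    ∀ u ∈ U, x * u * x⁻¹ ∈ U := fun u hu => (Subgroup.mem_normalizer_iff.1 h u).1 hu

theorem le_centralizer_zpowers {U : Subgroup Y} {x : Y} :
    U ≤ Subgroup.centralizer (Subgroup.zpowers x : Set Y) ↔ ∀ u ∈ U, x * u = u * x := by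
  constructor
  · exact fun h u hu => h hu x (Subgroup.mem_zpowers x)
  · intro h u hu g hg
    obtain ⟨i, rfl⟩ := Subgroup.mem_zpowers_iff.1 hg
    exact ((show Commute x u from h u hu).zpow_left i).eq

theorem coprime_zpowers {q r : ℕ} (hq : q.Prime) (hr : r.Prime) (hqr : q ≠ r) {U : Subgroup Y}
    (hU : IsPGroup q U) {x : Y} (hxr : x ^ r = 1) :
    (Nat.card (Subgroup.zpowers x)).Coprime (Nat.card U) := by
  haveI := Fact.mk hq
  obtain ⟨k, hk⟩ := hU.exists_card_eq
  rw [hk, Nat.card_zpowers]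
  exact Nat.Coprime.coprime_dvd_left (orderOf_dvd_of_pow_eq_one hxr)
    (((Nat.coprime_primes hr hq).2 (Ne.symm hqr)).pow_right k)

/-- A normal subgroup centralized by `A` is central in `[U, A]`. -/
theorem central_of_centralizes {U N A : Subgroup Y} (hN : U ≤ Subgroup.normalizer (N : Set Y))
    (hNA : N ≤ Subgroup.centralizer (A : Set Y)) (hU : ⁅U, A⁆ = U) :
    ∀ z ∈ N, ∀ u ∈ U, z * u = u * z := by
  have h1 : ⁅⁅A, N⁆, U⁆ = ⊥ := by
    rw [Subgroup.commutator_comm A N, Subgroup.commutator_eq_bot_iff_le_centralizer.mpr hNA,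
      Subgroup.commutator_bot_left]
  have hNU : ⁅N, U⁆ ≤ N := CfsgLib.Coprime.commutator_le_left_of_le_normalizer hN
  have h2 : ⁅⁅N, U⁆, A⁆ = ⊥ :=
    Subgroup.commutator_eq_bot_iff_le_centralizer.mpr (hNU.trans hNA)
  have h3 := Subgroup.commutator_commutator_eq_bot_of_rotate h1 h2
  rw [hU] at h3
  intro z hz u hu
  exact ((Subgroup.commutator_eq_bot_iff_le_centralizer.mp h3) hu z hz)

variable {K W : Type*} [Field K] [AddCommGroup W] [Module K W] (ρ : Y →* Module.End K W)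

theorem natCast_ne_zero_of_isPGroup {q : ℕ} [Fact q.Prime] {U : Subgroup Y} (hU : IsPGroup q U)
    (hq0 : (q : K) ≠ 0) : (Nat.card U : K) ≠ 0 := by
  obtain ⟨k, hk⟩ := hU.exists_card_eq
  rw [hk, Nat.cast_pow]
  exact pow_ne_zero k hq0

/-- A nontrivial central element acts as a nontrivial scalar on some invariant piece. -/
theorem exists_scalar_piece [IsAlgClosed K] [FiniteDimensional K W] (U Z : Subgroup Y) (x : Y)
    (hZU : ∀ z ∈ Z, ∀ u ∈ U, z * u = u * z) (hZx : ∀ z ∈ Z, x * z = z * x)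
    (hZZ : ∀ z ∈ Z, ∀ z' ∈ Z, z * z' = z' * z)
    {z : Y} (hz : z ∈ Z) (hzne : ρ z ≠ 1) (hord : (orderOf z : K) ≠ 0) :
    ∃ (S : Submodule K W) (lam : Y → K), S ≠ ⊥ ∧ U ≤ stab ρ S ∧ Z ≤ stab ρ S ∧ x ∈ stab ρ S ∧
      (∀ z' ∈ Z, ∀ v ∈ S, ρ z' v = lam z' • v) ∧ lam z ≠ 1 := by
  classical
  let R : Submodule K W := LinearMap.range (ρ z - 1)
  have hR : R ≠ ⊥ := fun h => hzne (sub_eq_zero.1 (LinearMap.range_eq_bot.1 h))
  have hRinv : ∀ g : Y, g * z = z * g → ∀ v ∈ R, ρ g v ∈ R := by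
    rintro g hg v ⟨w, rfl⟩
    refine ⟨ρ g w, ?_⟩
    simp [LinearMap.sub_apply, rho_commute ρ hg]
  haveI : Nontrivial R := (Submodule.nontrivial_iff_ne_bot).2 hR
  obtain ⟨μ, hμ⟩ := Module.End.exists_eigenvalue ((ρ z).restrict (hRinv z rfl))
  obtain ⟨v, hv⟩ := hμ.exists_hasEigenvector
  have hv1 : ρ z (v : W) = μ • (v : W) := congrArg Subtype.val (Module.End.mem_eigenspace_iff.1 hv.1)
  have hμ1 : μ ≠ 1 := by
    intro h1
    rw [h1, one_smul] at hv1
    obtain ⟨w, hw⟩ := v.2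
    have hw' : ρ z w = w + (v : W) := by
      rw [← hw, LinearMap.sub_apply, Module.End.one_apply]; abel
    have key : ∀ j : ℕ, ρ (z ^ j) w = w + (j : K) • (v : W) := by
      intro j
      induction j with
      | zero => simp
      | succ j ih =>
        rw [pow_succ', rho_mul, ih, map_add, map_smul, hw', hv1, Nat.cast_succ, add_smul, one_smul]
        abel
    have h2 := key (orderOf z)
    rw [pow_orderOf_eq_one, map_one, Module.End.one_apply, left_eq_add] at h2
    exact hv.2 (Subtype.ext ((smul_eq_zero.1 h2).resolve_left hord))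
  let E : Submodule K W := Module.End.eigenspace (ρ z) μ
  have hE : E ≠ ⊥ := fun h => hv.2 (Subtype.ext (by
    have : (v : W) ∈ E := Module.End.mem_eigenspace_iff.2 hv1
    rwa [h, Submodule.mem_bot] at this))
  have hEinv : ∀ g : Y, g * z = z * g → g ∈ stab ρ E := fun g hg w hw => by
    rw [Module.End.mem_eigenspace_iff] at hw ⊢
    rw [rho_commute ρ hg.symm, hw, map_smul]
  obtain ⟨S, ⟨hS0, hSE, hSU, hSx, hSZ⟩, hmin⟩ := wellFounded_lt.has_min
    {S : Submodule K W | S ≠ ⊥ ∧ S ≤ E ∧ U ≤ stab ρ S ∧ x ∈ stab ρ S ∧ Z ≤ stab ρ S}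
    ⟨E, hE, le_rfl, fun u hu => hEinv u (hZU z hz u hu).symm, hEinv x (hZx z hz),
      fun z' hz' => hEinv z' (hZZ z' hz' z hz)⟩
  have hscal : ∀ z' ∈ Z, ∃ c : K, ∀ v ∈ S, ρ z' v = c • v := by
    intro z' hz'
    haveI : Nontrivial S := (Submodule.nontrivial_iff_ne_bot).2 hS0
    obtain ⟨c, hc⟩ := Module.End.exists_eigenvalue ((ρ z').restrict (hSZ hz'))
    obtain ⟨w, hw⟩ := hc.exists_hasEigenvector
    have hw1 : ρ z' (w : W) = c • (w : W) := congrArg Subtype.val (Module.End.mem_eigenspace_iff.1 hw.1)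
    refine ⟨c, fun v hv => ?_⟩
    let S' := S ⊓ Module.End.eigenspace (ρ z') c
    have hS' : ∀ g : Y, g ∈ stab ρ S → g * z' = z' * g → g ∈ stab ρ S' := fun g hg hgz w hw => by
      refine ⟨hg w hw.1, ?_⟩
      rw [SetLike.mem_coe, Module.End.mem_eigenspace_iff]
      rw [rho_commute ρ hgz.symm, Module.End.mem_eigenspace_iff.1 hw.2, map_smul]
    have hle : S' ≤ S := inf_le_left
    have := hmin S' ⟨fun h => hw.2 (Subtype.ext (by
      have : (w : W) ∈ S' := ⟨w.2, Module.End.mem_eigenspace_iff.2 hw1⟩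
      rwa [h, Submodule.mem_bot] at this)), hle.trans hSE,
      fun u hu => hS' u (hSU hu) (hZU z' hz' u hu).symm, hS' x hSx (hZx z' hz'),
      fun z'' hz'' => hS' z'' (hSZ hz'') (hZZ z'' hz'' z' hz')⟩
    have e : S' = S := by
      by_contra hne
      exact this (lt_of_le_of_ne hle hne)
    exact Module.End.mem_eigenspace_iff.1 (e.ge hv).2
  choose! lam hlam using hscal
  refine ⟨S, lam, hS0, hSU, hSZ, hSx, hlam, fun h1 => ?_⟩
  obtain ⟨w, hw, hw0⟩ := Submodule.exists_mem_ne_zero_of_ne_bot hS0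
  have e1 := Module.End.mem_eigenspace_iff.1 (hSE hw)
  rw [hlam z hz w hw, h1] at e1
  exact hμ1 (smul_left_injective K hw0 e1).symm

end CfsgLib.BG.FixedLine
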