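import Cfsg.Agent.Lib.BG.FixedLine.Mono
import Cfsg.Agent.Lib.BG.FixedLine.Fpf
import Cfsg.Agent.Lib.PSolvable.Omega

/-!
Modules with a fixed line: scalar commutant and the action of commuting elements.
-/

set_option autoImplicit false
set_option linter.style.haveILetI false
set_option linter.unusedSectionVars false

open scoped commutatorElement

namespace CfsgLib.BG.FixedLine

open CfsgLib.Coprime

variable {K W Y : Type*} [Field K] [IsAlgClosed K] [AddCommGroup W] [Module K W]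
  [FiniteDimensional K W] [Group Y] [Finite Y] {ρ : Y →* Module.End K W}

theorem commute_commutator_eq {a u : Y} (h : ρ a * ρ u = ρ u * ρ a) : ρ ⁅a, u⁆ = 1 := by
  rw [commutatorElement_def, map_mul, map_mul, map_mul, h, mul_assoc (ρ u), ← map_mul ρ a,
    mul_inv_cancel, map_one, mul_one, ← map_mul, mul_inv_cancel, map_one]

theorem eq_of_commute_of_injOn {U : Subgroup Y} (hinj : ∀ u ∈ U, ρ u = 1 → u = 1) {a u : Y}
    (haU : ∀ u ∈ U, a * u * a⁻¹ ∈ U) (hu : u ∈ U) (h : ρ a * ρ u = ρ u * ρ a) : a * u = u * a :=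
  commutatorElement_eq_one_iff_mul_comm.1 (hinj _ (by
    rw [commutatorElement_def]; exact U.mul_mem (haU u hu) (U.inv_mem hu)) (commute_commutator_eq h))

/-- A `q`-group `U = [U, x]` is trivial on an invariant piece without fixed points of `x`. -/
theorem trivial_of_fpf {x : Y} {r q : ℕ} (hr : r.Prime) (hq : q.Prime) (hq2 : q ≠ 2) (hqr : q ≠ r)
    (hr0 : (r : K) ≠ 0) (hq0 : (q : K) ≠ 0) (hxr : x ^ r = 1) {U : Subgroup Y} (hU : IsPGroup q U)
    (hxU : ∀ u ∈ U, x * u * x⁻¹ ∈ U) (hcomm : ⁅U, Subgroup.zpowers x⁆ = U) {S : Submodule K W}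
    (hSU : U ≤ stab ρ S) (hSx : x ∈ stab ρ S) (hfix : S ⊓ fix ρ x = ⊥) :
    ∀ u ∈ U, ∀ v ∈ S, ρ u v = v := by
  have hf : fix (res ρ S) (⟨x, hSx⟩ : stab ρ S) = ⊥ := by
    rw [Submodule.eq_bot_iff]
    intro v hv
    have : (v : W) ∈ S ⊓ fix ρ x := ⟨v.2, congrArg Subtype.val hv⟩
    rw [hfix, Submodule.mem_bot] at this
    exact Subtype.ext this
  have h := (fpf_central (ρ := res ρ S) (x := ⟨x, hSx⟩) hr hq hqr hr0 hq0 (Subtype.ext hxr) hf
    (U.subgroupOf (stab ρ S)) (hU.of_equiv (Subgroup.subgroupOfEquivOfLe hSU).symm)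
    (fun u hu => hxU _ hu)).resolve_right fun h => hq2 h.1.1
  let F : Subgroup Y :=
    { carrier := {y | y ∈ U ∧ ∀ v ∈ S, ρ y v = v}
      one_mem' := ⟨U.one_mem, fun v _ => by simp⟩
      mul_mem' := fun {a b} ha hb => ⟨U.mul_mem ha.1 hb.1, fun v hv => by
        rw [rho_mul, hb.2 v hv, ha.2 v hv]⟩
      inv_mem' := fun {a} ha => ⟨U.inv_mem ha.1, fun v hv => by
        conv_lhs => rw [← ha.2 v hv]
        exact rho_inv_apply ρ a v⟩ }
  have hle : ⁅U, Subgroup.zpowers x⁆ ≤ F := by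
    refine Subgroup.commutator_le.2 fun u hu g hg => ⟨hcomm ▸ Subgroup.commutator_mem_commutator hu hg, ?_⟩
    obtain ⟨i, rfl⟩ := Subgroup.mem_zpowers_iff.1 hg
    intro v hv
    let u' : stab ρ S := ⟨u, hSU hu⟩
    let x' : stab ρ S := ⟨x, hSx⟩
    have e := h u' hu
    have e' : Commute ((res ρ S).toHomUnits u') ((res ρ S).toHomUnits x') := Units.ext e.symm
    have h1 : (res ρ S).toHomUnits ⁅u', x' ^ i⁆ = 1 := by
      rw [map_commutatorElement, map_zpow]
      exact commutatorElement_eq_one_iff_commute.2 (e'.zpow_right i)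
    have h2 : res ρ S ⁅u', x' ^ i⁆ = 1 := congrArg Units.val h1
    have h3 := (res_eq_one_iff ρ S _).1 h2 v hv
    have e2 : ((⁅u', x' ^ i⁆ : stab ρ S) : Y) = ⁅u, x ^ i⁆ := by
      simp [u', x', commutatorElement_def]
    rwa [e2] at h3
  intro u hu
  exact ((hcomm.ge.trans hle) hu).2

/-- The commutant of an action irreducible through a fixed line consists of scalars. -/
theorem scalar_of_commute {x : Y} {r q : ℕ} (hr : r.Prime) (hq : q.Prime) (hq2 : q ≠ 2) (hqr : q ≠ r)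
    (hr0 : (r : K) ≠ 0) (hq0 : (q : K) ≠ 0) (hxr : x ^ r = 1) {U : Subgroup Y} (hU : IsPGroup q U)
    (hxU : ∀ u ∈ U, x * u * x⁻¹ ∈ U) (hcomm : ⁅U, Subgroup.zpowers x⁆ = U)
    (hnofix : ∀ v, (∀ u ∈ U, ρ u v = v) → v = 0) (hfix : Module.finrank K (fix ρ x) ≤ 1)
    {g : Module.End K W} (hgU : ∀ u ∈ U, g * ρ u = ρ u * g) (hgx : g * ρ x = ρ x * g) :
    ∃ μ : K, g = μ • 1 := by
  classical
  by_cases hW : Subsingleton W
  · exact ⟨0, LinearMap.ext fun v => Subsingleton.elim _ _⟩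
  haveI : Nontrivial W := not_subsingleton_iff_nontrivial.1 hW
  have hmeet : ∀ S : Submodule K W, U ≤ stab ρ S → x ∈ stab ρ S → S ≠ ⊥ → S ⊓ fix ρ x ≠ ⊥ := by
    intro S hSU hSx hS0 hS
    refine hS0 ((Submodule.eq_bot_iff _).2 fun v hv => hnofix v fun u hu => ?_)
    exact trivial_of_fpf hr hq hq2 hqr hr0 hq0 hxr hU hxU hcomm hSU hSx hS u hu v hv
  obtain ⟨c, hc, hc0⟩ := Submodule.exists_mem_ne_zero_of_ne_bot
    (hmeet ⊤ (fun u _ _ _ => trivial) (fun _ _ => trivial) top_ne_bot)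
  replace hc := hc.2
  have hspan : fix ρ x = Submodule.span K {c} :=
    (Submodule.eq_of_le_of_finrank_le ((Submodule.span_singleton_le_iff_mem c _).2 hc)
      (by rw [finrank_span_singleton hc0]; exact hfix)).symm
  have hgfix : g c ∈ fix ρ x := by
    show ρ x (g c) = g c
    rw [← Module.End.mul_apply, ← hgx, Module.End.mul_apply, mem_fix ρ |>.1 hc]
  rw [hspan, Submodule.mem_span_singleton] at hgfix
  obtain ⟨μ, hμ⟩ := hgfix
  refine ⟨μ, ?_⟩
  set d : Module.End K W := g - μ • 1 with hd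
  have hdU : ∀ u ∈ U, d * ρ u = ρ u * d := fun u hu => by
    rw [hd, sub_mul, mul_sub, hgU u hu, smul_mul_assoc, one_mul, mul_smul_comm, mul_one]
  have hdx : d * ρ x = ρ x * d := by
    rw [hd, sub_mul, mul_sub, hgx, smul_mul_assoc, one_mul, mul_smul_comm, mul_one]
  have hdc : ∀ v ∈ fix ρ x, d v = 0 := by
    intro v hv
    rw [hspan, Submodule.mem_span_singleton] at hv
    obtain ⟨t, rfl⟩ := hv
    rw [map_smul, hd, LinearMap.sub_apply, LinearMap.smul_apply, Module.End.one_apply, ← hμ, sub_self,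
      smul_zero]
  have hstab : ∀ y : Y, d * ρ y = ρ y * d → y ∈ stab ρ (LinearMap.range d) := by
    rintro y hy _ ⟨w, rfl⟩
    exact ⟨ρ y w, by rw [← Module.End.mul_apply, hy, Module.End.mul_apply]⟩
  by_contra hne
  have hd0 : LinearMap.range d ≠ ⊥ := fun h => hne (sub_eq_zero.1 (LinearMap.range_eq_bot.1 h))
  obtain ⟨w, ⟨⟨v, rfl⟩, hwfix⟩, hw0⟩ := Submodule.exists_mem_ne_zero_of_ne_bot
    (hmeet _ (fun u hu => hstab u (hdU u hu)) (hstab x hdx) hd0)
  set sv := ∑ i ∈ Finset.range r, ρ (x ^ i) v with hsv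
  have hsvfix : sv ∈ fix ρ x := by
    rw [mem_fix, hsv, map_sum]
    simp only [← rho_mul, ← pow_succ']
    have h1 := Finset.sum_range_succ' (fun i => ρ (x ^ i) v) r
    have h2 := Finset.sum_range_succ (fun i => ρ (x ^ i) v) r
    simp only [pow_zero, hxr] at h1 h2
    exact add_right_cancel (h1.symm.trans h2)
  have h0 := hdc sv hsvfix
  have hcomp : ∀ i : ℕ, d (ρ (x ^ i) v) = d v := by
    intro i
    induction i with
    | zero => simp
    | succ i ih =>
      rw [pow_succ', rho_mul, ← Module.End.mul_apply, hdx, Module.End.mul_apply, ih]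
      exact hwfix
  rw [hsv, map_sum, Finset.sum_congr rfl (fun i _ => hcomp i), Finset.sum_const, Finset.card_range,
    ← Nat.cast_smul_eq_nsmul K] at h0
  exact hw0 ((smul_eq_zero.1 h0).resolve_left hr0)

/-- With a single moved orbit, a commuting `p`-element fixes every character. -/
theorem smul_eq_self_of_orbit {A : Subgroup Y} (hA0 : (Nat.card A : K) ≠ 0)
    {x g : Subgroup.normalizer (A : Set Y)} {r p k : ℕ} (hr : r.Prime) (hp : p.Prime) (hpr : p ≠ r)
    (hxr : x ^ r = 1) (hfix : Module.finrank K (fix ρ (x : Y)) ≤ 1)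
    (hmoved : ∀ μ : Chi K A, comp ρ A μ ≠ ⊥ → x • μ ≠ μ) (hgx : g * x = x * g) (hgp : g ^ p ^ k = 1)
    {μ : Chi K A} (hμ : comp ρ A μ ≠ ⊥) : g • μ = μ := by
  obtain ⟨v, hv, hv0⟩ := Submodule.exists_mem_ne_zero_of_ne_bot hμ
  have hgv : ρ (g : Y) v ≠ 0 := fun e => hv0 (by rw [← rho_inv_apply ρ (g : Y) v, e, map_zero])
  have hgc : comp ρ A (g • μ) ≠ ⊥ := fun e => hgv (by
    have := rho_mem_comp ρ A g hv
    rwa [e, Submodule.mem_bot] at this)
  obtain ⟨i, hi, he⟩ := moved_orbit ρ A hA0 hfix hr hxr (hmoved μ hμ) hμ (hmoved _ hgc) hgc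
  have hpow : ∀ n : ℕ, g ^ n • μ = x ^ (i * n) • μ := by
    intro n
    induction n with
    | zero => simp
    | succ n ih =>
      rw [pow_succ', mul_smul, ih, ← mul_smul, ((show Commute g x from hgx).pow_right _).eq, mul_smul, he,
        ← mul_smul, ← pow_add]
      congr 2
  have h1 := hpow (p ^ k)
  rw [hgp, one_smul] at h1
  have hmod : x ^ (i * p ^ k) = x ^ (i * p ^ k % r) := pow_eq_pow_mod _ hxr
  rw [hmod] at h1
  rcases Nat.eq_zero_or_pos (i * p ^ k % r) with h0 | h0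
  · have hd : r ∣ i * p ^ k := Nat.dvd_of_mod_eq_zero h0
    rcases hr.dvd_mul.1 hd with hd' | hd'
    · have hi0 : i = 0 := Nat.eq_zero_of_dvd_of_lt hd' hi
      rw [he, hi0, pow_zero, one_smul]
    · exact absurd ((Nat.prime_dvd_prime_iff_eq hr hp).1 (hr.dvd_of_dvd_pow hd')) hpr.symm
  · exact absurd (show x ^ 0 • μ = _ by rw [pow_zero, one_smul]; exact h1)
      (pow_smul_ne A hr hxr (hmoved μ hμ) h0 (Nat.mod_lt _ hr.pos))

/-- An element fixing every character that occurs commutes with the abelian subgroup on the module. -/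
theorem commute_of_fixed_chars {A : Subgroup Y} (hA : ∀ a ∈ A, ∀ b ∈ A, a * b = b * a)
    (hA0 : (Nat.card A : K) ≠ 0) {g : Subgroup.normalizer (A : Set Y)}
    (hg : ∀ μ : Chi K A, comp ρ A μ ≠ ⊥ → g • μ = μ) :
    ∀ a ∈ A, ρ (g : Y) * ρ a = ρ a * ρ (g : Y) := by
  intro a ha
  refine eq_of_eq_on_comp ρ A hA hA0 fun μ v hv => ?_
  by_cases hμ : comp ρ A μ = ⊥
  · rw [hμ, Submodule.mem_bot] at hv
    simp [hv]
  have h1 := rho_mem_comp ρ A g hv
  rw [hg μ hμ] at h1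
  rw [Module.End.mul_apply, Module.End.mul_apply, hv ⟨a, ha⟩, map_smul, h1 ⟨a, ha⟩]

/-- Fixed points of `x` in `U = [U, x]` lie in the commutator subgroup. -/
theorem fixed_le_commutator {x : Y} {r q : ℕ} (hr : r.Prime) (hq : q.Prime) (hqr : q ≠ r)
    (hxr : x ^ r = 1) {U : Subgroup Y} (hU : IsPGroup q U) (hxU : ∀ u ∈ U, x * u * x⁻¹ ∈ U)
    (hcomm : ⁅U, Subgroup.zpowers x⁆ = U) {c : Y} (hc : c ∈ U) (hxc : x * c = c * x) :
    c ∈ ⁅U, U⁆ := by
  classical
  haveI := Fact.mk hq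
  have hm : ∀ (i : ℕ), ∀ u ∈ U, x ^ i * u * (x ^ i)⁻¹ ∈ U := pow_mem_conj hxU
  let τ : U →* Abelianization U :=
    ∏ i ∈ Finset.range r, (Abelianization.of).comp
      { toFun := fun u => (⟨x ^ i * (u : Y) * (x ^ i)⁻¹, hm i _ u.2⟩ : U)
        map_one' := Subtype.ext (by simp)
        map_mul' := fun u v => Subtype.ext (by simp [mul_assoc]) }
  have hτ : ∀ u : U, τ u = ∏ i ∈ Finset.range r,
      Abelianization.of (⟨x ^ i * (u : Y) * (x ^ i)⁻¹, hm i _ u.2⟩ : U) := fun u => by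
    simp only [τ, MonoidHom.finsetProd_apply, MonoidHom.comp_apply, MonoidHom.coe_mk, OneHom.coe_mk]
  have hτx : ∀ u : U, τ ⟨x * (u : Y) * x⁻¹, hxU _ u.2⟩ = τ u := by
    intro u
    rw [hτ, hτ]
    have h1 := Finset.prod_range_succ'
      (fun i => Abelianization.of (⟨x ^ i * (u : Y) * (x ^ i)⁻¹, hm i _ u.2⟩ : U)) r
    have h2 := Finset.prod_range_succ
      (fun i => Abelianization.of (⟨x ^ i * (u : Y) * (x ^ i)⁻¹, hm i _ u.2⟩ : U)) r
    simp only [pow_zero, hxr] at h1 h2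
    refine Eq.trans (Finset.prod_congr rfl fun i _ => ?_) (mul_right_cancel (h1.symm.trans h2))
    congr 1
    exact Subtype.ext (show x ^ i * (x * (u : Y) * x⁻¹) * (x ^ i)⁻¹ = x ^ (i + 1) * (u : Y) * (x ^ (i + 1))⁻¹ by
      rw [pow_succ]; group)
  let F : Subgroup Y := (τ.ker).map U.subtype
  have hle : ⁅U, Subgroup.zpowers x⁆ ≤ F := by
    refine Subgroup.commutator_le.2 fun u hu g hg => ?_
    have hmem : ⁅u, g⁆ ∈ U := hcomm ▸ Subgroup.commutator_mem_commutator hu hg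
    refine ⟨⟨_, hmem⟩, ?_, rfl⟩
    obtain ⟨i, rfl⟩ := Subgroup.mem_zpowers_iff.1 hg
    have key : ∀ (i : ℤ) (w : U) (h : x ^ i * (w : Y) * (x ^ i)⁻¹ ∈ U),
        τ ⟨x ^ i * (w : Y) * (x ^ i)⁻¹, h⟩ = τ w := by
      intro i
      induction i using Int.induction_on with
      | zero => intro w h; congr 1; exact Subtype.ext (by simp)
      | succ n ih =>
        intro w h
        have h' : x ^ (n : ℤ) * (w : Y) * (x ^ (n : ℤ))⁻¹ ∈ U := by
          rw [zpow_natCast]; exact hm n _ w.2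
        rw [← ih w h', ← hτx ⟨_, h'⟩]
        congr 1
        exact Subtype.ext (by simp only; group)
      | pred n ih =>
        intro w h
        have h' : x ^ (-(n : ℤ)) * (w : Y) * (x ^ (-(n : ℤ)))⁻¹ ∈ U := by
          have h0 := hxU _ h
          convert h0 using 1
          group
        rw [← ih w h', ← hτx ⟨_, h⟩]
        congr 1
        exact Subtype.ext (by simp only; group)
    have h' : x ^ i * u⁻¹ * (x ^ i)⁻¹ ∈ U := by
      have := U.mul_mem (U.inv_mem hu) hmem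
      rwa [commutatorElement_def, show u⁻¹ * (u * x ^ i * u⁻¹ * (x ^ i)⁻¹) = x ^ i * u⁻¹ * (x ^ i)⁻¹ by group] at this
    have e : (⟨⁅u, x ^ i⁆, hmem⟩ : U) = ⟨u, hu⟩ * ⟨x ^ i * ((⟨u⁻¹, U.inv_mem hu⟩ : U) : Y) * (x ^ i)⁻¹, h'⟩ :=
      Subtype.ext (by simp [commutatorElement_def, mul_assoc])
    show τ ⟨⁅u, x ^ i⁆, hmem⟩ = 1
    rw [e, map_mul, key i ⟨u⁻¹, U.inv_mem hu⟩ h', show (⟨u⁻¹, U.inv_mem hu⟩ : U) = (⟨u, hu⟩ : U)⁻¹ from rfl,
      map_inv, mul_inv_cancel]
  obtain ⟨c', hc', hc'e⟩ := (hcomm.ge.trans hle) hc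
  have h1 : τ ⟨c, hc⟩ = 1 := by
    have : c' = ⟨c, hc⟩ := Subtype.ext hc'e
    exact this ▸ hc'
  rw [hτ, Finset.prod_congr rfl (g := fun _ => Abelianization.of (⟨c, hc⟩ : U)) (fun i _ => by
    congr 1
    exact Subtype.ext (by
      show x ^ i * c * (x ^ i)⁻¹ = c
      rw [((show Commute x c from hxc).pow_left i).eq, mul_inv_cancel_right])),
    Finset.prod_const, Finset.card_range] at h1
  obtain ⟨k, hk⟩ := hU ⟨c, hc⟩
  have h2 : Abelianization.of (⟨c, hc⟩ : U) ^ q ^ k = 1 := by rw [← map_pow, hk, map_one]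
  have hco : Nat.gcd r (q ^ k) = 1 := ((Nat.coprime_primes hr hq).2 hqr.symm).pow_right k
  have h3 : Abelianization.of (⟨c, hc⟩ : U) = 1 := by
    have := pow_gcd_eq_one.2 ⟨h1, h2⟩
    rwa [hco, pow_one] at this
  have h4 : (⟨c, hc⟩ : U) ∈ commutator U := by
    rw [← Abelianization.ker_of]; exact h3
  have h5 : c ∈ (commutator U).map U.subtype := ⟨_, h4, rfl⟩
  rw [commutator_def, Subgroup.map_commutator, ← MonoidHom.range_eq_map, Subgroup.range_subtype] at h5
  exact h5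

end CfsgLib.BG.FixedLine
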